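import Cfsg.Agent.KM.Sp.CtA
import Cfsg.Agent.KM.Two.Row
import Cfsg.Agent.LV.Spor.Row35
import Cfsg.Agent.H135.RK.NonAb
import Cfsg.Agent.BpSpor.ONanThree
import Cfsg.Agent.H729.CharTwoBlock
import Cfsg.Agent.S4888
import Cfsg.Agent.S4710
import Cfsg.Agent.S2052

/-!
# KM, sporadic rows: the Tits group and the groups from `M₁₁` to `Ly` (helper67)
-/

set_option autoImplicit false
set_option maxRecDepth 100000
set_option linter.unusedSectionVars false

namespace Cfsg.Agent.KM.Sp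

open Cfsg Subgroup Cfsg.Agent.BHZ.Spor Cfsg.Agent.TAB Cfsg.Agent.TAB.Eng Cfsg.Agent.TAB.Use Cfsg.Agent.PQ.Spor
open Cfsg.Agent.NotCT

/-- all primes -/
def All (S : Type) [Group S] : Prop := ∀ p : ℕ, p.Prime → Row p S

variable {S : Type} [Group S] [Finite S]

theorem Ok.nt {D : Dat} {R : TAB.Use.Rows} {p d : ℕ} (c : Ok D R [] p d []) (h : HasT S D R) (hp : p.Prime) :
    NoA p d S :=
  have := Fact.mk hp
  h.elim fun _ h => c.noA0 (Hy.nil h.1 h.2)

/-- the primes whose cubes divide the order -/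
def cubB (N : ℕ) (L : List ℕ) : Bool :=
  PL.prod ^ 50 % N == 0 && PL.all fun p => p == 2 || L.contains p || N % p ^ 3 != 0

theorem all_of {N : ℕ} (hN : Nat.card S = N) (L : List ℕ) (hL : cubB N L = true) (h2 : NoA 2 5 S)
    (h : ∀ p ∈ L, p.Prime → Row p S) : All S := by
  intro p hp
  have := Fact.mk hp
  simp only [cubB, Bool.and_eq_true, beq_iff_eq, List.all_eq_true, Bool.or_eq_true, List.contains_iff_mem,
    bne_iff_ne] at hL
  by_cases h3 : p ^ 3 ∣ Nat.card S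
  · rw [hN] at h3
    rcases hL.2 p (mem_PL hL.1 hp ((dvd_pow_self p (by norm_num)).trans h3)) with (rfl | h4) | h4
    · exact row_two h2
    · exact h p h4 hp
    · exact absurd (Nat.mod_eq_zero_of_dvd h3) h4
  · exact row_of_noA (noA_of_card h3)

theorem all_noA {N : ℕ} (hN : Nat.card S = N) (L : List ℕ) (hL : cubB N L = true) (h2 : NoA 2 5 S)
    (h : L.Forall fun p => p.Prime → NoA p 3 S) : All S :=
  all_of hN L hL h2 fun p hp h1 => have := Fact.mk h1; row_of_noA (List.forall_iff_forall_mem.1 h p hp h1)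

theorem syl_noA {N p : ℕ} (hN : Nat.card S = N) (h : ¬ p ^ 4 ∣ N) (hS : ¬ LV.AbS p S) (hp : p.Prime) : NoA p 3 S :=
  have := Fact.mk hp
  noA_of_syl (hN ▸ h) hS

theorem aM11 (h : Spor.IsoM11 S) : All S :=
  all_noA (Orders.m11 h) [] (by decide +kernel) (noA_of_card (by rw [Orders.m11 h]; norm_num)) trivial

theorem aM12 (h : Spor.IsoM12 S) : All S := h.elim fun e =>
  all_noA (Orders.m12 h) [3] (by decide +kernel) (okM12_2.nt (tM12.pull e) Nat.prime_two) (okM12_3.nt (tM12.pull e))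

theorem aM22 (h : Spor.IsoM22 S) : All S := h.elim fun e =>
  all_noA (Orders.m22 h) [] (by decide +kernel) (okM22_2.nt (tM22.pull e) Nat.prime_two) trivial

theorem aM23 (h : Spor.IsoM23 S) : All S := h.elim fun e =>
  all_noA (Orders.m23 h) [] (by decide +kernel) (okM23_2.nt (tM23.pull e) Nat.prime_two) trivial

theorem aM24 (h : Spor.IsoM24 S) : All S := h.elim fun e =>
  all_noA (Orders.m24 h) [3] (by decide +kernel) (okM24_2.nt (tM24.pull e) Nat.prime_two) (okM24_3.nt (tM24.pull e))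

theorem aTits (h : Lie.IsoTits S) : All S :=
  all_noA (Orders.tits h) [3] (by decide +kernel) (okTits_2.nt (tTits h) Nat.prime_two)
    (syl_noA (Orders.tits h) (by norm_num) (LV.SpH.tits_3 h))

theorem aJ1 (h : Spor.IsoJ1 S) : All S :=
  all_noA (Orders.j1 h) [] (by decide +kernel) (noA_of_card (by rw [Orders.j1 h]; norm_num)) trivial

theorem aJ2 (h : Spor.IsoJ2 S) : All S := h.elim fun e =>
  all_noA (Orders.j2 h) [3] (by decide +kernel) (okJ2_2.nt (tJ2.pull e) Nat.prime_two) (okJ2_3.nt (tJ2.pull e))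

theorem aJ3 (h : Spor.IsoJ3 S) : All S :=
  have t : HasT S _ _ := (TH.Spor.J3.exists_tab h).imp fun _ h => ⟨h.1, h.2.2⟩
  all_noA (Orders.j3 h) [3] (by decide +kernel) (okJ3_2.nt t Nat.prime_two) (okJ3_3.nt t)

theorem aJ4 (h : Spor.IsoJ4 S) : All S := h.elim fun e =>
  all_noA (Orders.j4 h) [3, 11] (by decide +kernel) (okJ4_2.nt (tJ4.pull e) Nat.prime_two)
    ⟨syl_noA (Orders.j4 h) (by norm_num) (LV.SpH.j4_3 h), syl_noA (Orders.j4 h) (by norm_num) fun hA => by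
      obtain ⟨P⟩ : Nonempty (Sylow 11 S) := inferInstance
      obtain ⟨x, hx, y, hy, hxy⟩ := H135.RK.j4_11 h P
      exact hxy (forall_of_comm (hA P) x hx y hy)⟩

theorem aCo1 (h : Spor.IsoCo1 S) : All S := by
  obtain ⟨e⟩ := id h
  have := Finite.of_equiv S e.toEquiv
  have := Fact.mk Nat.prime_two
  have := Fact.mk Nat.prime_three
  obtain ⟨T, h1, h2, -, -, h3⟩ := Co1.tab
  exact all_noA (Orders.co1 h) [3, 5] (by decide +kernel)
    ((okCo1_2.noA0 (Hy.of_rat h1 h2 h3 _ (by decide +kernel))).congr e.symm)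
    ⟨fun _ => (okCo1_3.noA0 (Hy.of_rat h1 h2 h3 _ (by decide +kernel))).congr e.symm, okCo1_5.nt (tCo1.pull e)⟩

theorem aCo2 (h : Spor.IsoCo2 S) : All S := h.elim fun e =>
  all_noA (Orders.co2 h) [3, 5] (by decide +kernel) (okCo2_2.nt (tCo2.pull e) Nat.prime_two)
    ⟨okCo2_3.nt (tCo2.pull e), okCo2_5.nt (tCo2.pull e)⟩

theorem aCo3 (h : Spor.IsoCo3 S) : All S := h.elim fun e =>
  all_noA (Orders.co3 h) [3, 5] (by decide +kernel) (okCo3_2.nt (tCo3.pull e) Nat.prime_two)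
    ⟨okCo3_3.nt (tCo3.pull e), okCo3_5.nt (tCo3.pull e)⟩

theorem aMcL (h : Spor.IsoMcL S) : All S := h.elim fun e =>
  all_noA (Orders.mcl h) [3, 5] (by decide +kernel) (okMcL_2.nt (tMcL.pull e) Nat.prime_two)
    ⟨okMcL_3.nt (tMcL.pull e), syl_noA (Orders.mcl h) (by norm_num) fun hA =>
      have := Fact.mk Nat.prime_five
      H573.Spor.mcl_5 h (LV.SpH.pcent hA)⟩

theorem aHS (h : Spor.IsoHS S) : All S := h.elim fun e =>
  all_noA (Orders.hs h) [5] (by decide +kernel) (okHS_2.nt (tHS.pull e) Nat.prime_two) (okHS_5.nt (tHS.pull e))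

theorem aSuz (h : Spor.IsoSuz S) : All S := h.elim fun e =>
  all_noA (Orders.suz h) [3] (by decide +kernel) (okSuz_2.nt (tSuz.pull e) Nat.prime_two) (okSuz_3.nt (tSuz.pull e))

theorem aHe (h : Spor.IsoHe S) : All S := h.elim fun e =>
  all_noA (Orders.he h) [3, 7] (by decide +kernel) (okHe_2.nt (tHe.pull e) Nat.prime_two)
    ⟨okHe_3.nt (tHe.pull e), okHe_7.nt (tHe.pull e)⟩

theorem aRu (h : Spor.IsoRu S) : All S := h.elim fun e =>
  all_noA (Orders.ru h) [3, 5] (by decide +kernel) (okRu_2.nt (tRu.pull e) Nat.prime_two)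
    ⟨syl_noA (Orders.ru h) (by norm_num) (LV.SpH.ru_3 h), okRu_5.nt (tRu.pull e)⟩

theorem aLy (h : Spor.IsoLy S) : All S := by
  obtain ⟨e⟩ := id h
  have := Finite.of_equiv S e.toEquiv
  have := Fact.mk Nat.prime_five
  obtain ⟨T, h1, h2, h3⟩ := Ly.tab
  exact all_noA (Orders.ly h) [3, 5] (by decide +kernel) (okLy_2.nt (tLy.pull e) Nat.prime_two)
    ⟨okLy_3.nt (tLy.pull e), fun _ => (okLy_5.noA0 (Hy.of_rat h1 h2 h3 _ (by decide +kernel))).congr e.symm⟩

/-- **the O'Nan group, `p = 3`** -/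
theorem on_kmg [Finite Spor.ON] {M : Ideal AlgInt} (hM : IsPModular 3 M) : BK.KMg 3 M Spor.ON := by
  have := Fact.mk Nat.prime_three
  intro B E hB hE hab χ hχ
  by_cases hd : blockDefect 3 B ≤ 2
  · obtain ⟨h2, h3⟩ := (S4710.result 3 M hM B hB _ rfl).2 χ hχ
    omega
  have h1 : 3 ^ 3 ∣ Nat.card E := by
    rw [S0908.result 3 M hM B hB E hE]
    exact pow_dvd_pow 3 (by omega)
  have hL := locA_of_block hM hB hE hab
  obtain ⟨T, hm, hT⟩ := tON
  have hr : RegTriv 3 E := fun r hr h3 => by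
    have h4 := le_ub (Hy.nil hm hT) (p := 3) (U := [4, 2, 4, 2, 1, 2, 2, 0, 2, 0, 0, 2, 0, 2, 0, 2, 2, 2, 0, 2, 0, 2])
      (A := [0, 1, 0, 1, 19, 1, 1, 19, 9, 19, 19, 1, 19, 1, 19, 1, 9, 9, 19, 1, 19, 1]) (by decide +kernel)
      (h1.trans (card_dvd_of_comm hr))
    rw [T.ord] at h3
    rw [← orderOf_eq_one_iff, T.ord]
    revert h3 h4
    exact (by decide +kernel : ∀ i < ON.dON.n, ¬ 3 ∣ ON.dON.ord i → ¬ List.getD _ i 0 < 3 → ON.dON.ord i = 1) _ (T.lt r)
  have h2 : B = principalBlock M Spor.ON := H729.CharTwoBlock.eq_principal_of_centralizer hM hB hE fun g => by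
    obtain ⟨k, m, hm, h3⟩ := Nat.exists_eq_pow_mul_and_not_dvd (orderOf_pos (g : Spor.ON)).ne' 3 (by norm_num)
    refine ⟨k, Subtype.ext (hr _ (fun d hd => Commute.pow_right (mem_centralizer_iff.1 g.2 d hd) _) fun h4 => hm ?_)⟩
    refine h4.trans (orderOf_dvd_of_pow_eq_one ?_)
    rw [Subgroup.coe_pow, ← pow_mul, ← h3, pow_orderOf_eq_one]
  obtain ⟨g, hg, hgD, hmax⟩ := hL.syl
  have h3 := hL.abS fun P hP hle => hmax P hP hle fun k _ => by
    rw [hr g hgD hg]
    exact Commute.one_right k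
  subst h2
  rw [S4888.blockHeight_principal 3 hM]
  exact Nat.factorization_eq_zero_of_not_dvd (LV.SpH.on_hz hM ⟨MulEquiv.refl _⟩ h3 χ hχ)

theorem aON (h : Spor.IsoON S) : All S := by
  obtain ⟨e⟩ := id h
  have := Finite.of_equiv S e.toEquiv
  refine all_of (Orders.on h) [3, 7] (by decide +kernel) (okON_2.nt (tON.pull e) Nat.prime_two)
    (List.forall_iff_forall_mem.1 ⟨fun hp => ?_, fun hp => ?_⟩)
  · have := Fact.mk hp
    exact Row.of_equiv e (Two.row_of_mult S2052.result (k := 1) (by rw [← Two.card_zm, pow_one]) fun _ => on_kmg)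
  · have := Fact.mk hp
    refine Row.of_equiv e (row_of_noA fun E hE h1 => BpSpor.ONanThree.not_abelian ?_ hE.ab)
    obtain ⟨n, hn⟩ := hE.pg.exists_card_eq
    have h2 := card_subgroup_dvd_card E
    rw [hn] at h1 h2 ⊢
    rw [Orders.on ⟨MulEquiv.refl _⟩] at h2
    have h3 := (Nat.pow_dvd_pow_iff_le_right hp.one_lt).1 h1
    rw [le_antisymm (not_lt.1 fun h4 => absurd ((pow_dvd_pow 7 h4).trans h2) (by norm_num)) h3]

end Cfsg.Agent.KM.Sp
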