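import Cfsg.Agent.BHZ.Spor.Block
import Cfsg.Agent.KM.Defs
import Cfsg.Agent.KM.Two.Blk2
import Cfsg.Agent.TID.BlkCases
import Cfsg.Agent.LV.Red.Defs

/-!
# KM, sporadic rows: the local data of an abelian defect group (helper67)

* `LocA p D` : `D` is abelian, a maximal `p`-subgroup of the centralizer of a `p`-regular element, and contains every
  `p`-subgroup normalized by `C(D)`;
* `NoA p d S` : `p ^ d` does not divide the order of such a subgroup;
* `row_odd`, `row_two` : the rows.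
-/

set_option autoImplicit false
set_option linter.unusedSectionVars false

namespace Cfsg.Agent.KM.Sp

open Cfsg Subgroup Cfsg.Agent.BHZ.Spor

universe u v

/-- the local data -/
structure LocA (p : ℕ) {S : Type u} [Group S] (D : Subgroup S) : Prop where
  pg : IsPGroup p D
  ab : ∀ a ∈ D, ∀ b ∈ D, Commute a b
  syl : ∃ g : S, ¬ p ∣ orderOf g ∧ (∀ d ∈ D, Commute d g) ∧
    ∀ P : Subgroup S, IsPGroup p P → D ≤ P → (∀ k ∈ P, Commute k g) → P ≤ D
  core : ∀ U : Subgroup S, IsPGroup p U →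
    (∀ x : S, (∀ d ∈ D, Commute d x) → ∀ u ∈ U, x * u * x⁻¹ ∈ U) → U ≤ D

/-- no local data of order divisible by `p ^ d` -/
def NoA (p d : ℕ) (S : Type u) [Group S] : Prop := ∀ D : Subgroup S, LocA p D → ¬ p ^ d ∣ Nat.card D

variable {p : ℕ} [hp : Fact p.Prime] {S : Type u} [Group S] {D : Subgroup S}

omit hp in
theorem LocA.pelt (h : LocA p D) {d : S} (hd : d ∈ D) : ∃ k : ℕ, d ^ p ^ k = 1 := pelt_of_mem h.pg hd

/-- passing to the centralizer of a subgroup `Y` of `D` (given as the range of `f`) -/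
theorem LocA.comap [Finite S] (h : LocA p D) {T : Type v} [Group T] (f : T →* S) (hf : Function.Injective f)
    {Y : Subgroup S} (hY : Y ≤ D) (hr : ∀ x : S, x ∈ f.range ↔ ∀ y ∈ Y, Commute y x) : LocA p (D.comap f) := by
  have hD : ∀ d ∈ D, d ∈ f.range := fun d hd => (hr d).2 fun y hy => h.ab y (hY hy) d hd
  refine ⟨h.pg.comap_of_injective f hf, fun a ha b hb => hf (by
    rw [map_mul, map_mul]; exact h.ab _ ha _ hb), ?_, ?_⟩
  · obtain ⟨g, hg, hgD, hmax⟩ := h.syl
    obtain ⟨g, rfl⟩ := (hr g).2 fun y hy => hgD y (hY hy)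
    refine ⟨g, by rwa [← orderOf_injective f hf], fun d hd => hf (by
      rw [map_mul, map_mul]; exact hgD _ hd), fun P hP hle hc => ?_⟩
    refine map_le_iff_le_comap.1 (hmax _ (hP.map f) (fun d hd => ?_) ?_)
    · obtain ⟨d, rfl⟩ := hD d hd
      exact ⟨d, hle hd, rfl⟩
    · rintro _ ⟨k, hk, rfl⟩
      exact (hc k hk).map f
  · intro U hU h2
    refine map_le_iff_le_comap.1 (h.core _ (hU.map f) (fun x hx => ?_))
    obtain ⟨x, rfl⟩ := (hr x).2 fun y hy => hx y (hY hy)
    rintro _ ⟨u, hu, rfl⟩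
    exact ⟨_, h2 x (fun d hd => hf (by rw [map_mul, map_mul]; exact hx _ hd)) u hu, by simp⟩

theorem LocA.congr [Finite S] (h : LocA p D) {T : Type v} [Group T] (e : T ≃* S) :
    LocA p (D.comap e.toMonoidHom) :=
  h.comap e.toMonoidHom e.injective (Y := ⊥) bot_le
    fun x => ⟨fun _ y hy => by rw [mem_bot.1 hy]; exact Commute.one_left x, fun _ => e.surjective x⟩

/-- passing to the centralizer of an element of `D` -/
theorem LocA.cent [Finite S] (h : LocA p D) {y : S} (hy : y ∈ D) :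
    LocA p (D.subgroupOf (centralizer ({y} : Set S))) :=
  h.comap (centralizer ({y} : Set S)).subtype (subtype_injective _) (Y := zpowers y) (zpowers_le.2 hy) fun x => by
    rw [range_subtype, mem_centralizer_singleton_iff]
    exact ⟨fun hx w hw => commute_of_mem_zpowers hx.symm hw, fun hx => (hx y (mem_zpowers y)).symm⟩

/-- passing to a central quotient -/
theorem LocA.quot [Finite S] (h : LocA p D) {T : Type v} [Group T] (φ : S →* T) (hs : Function.Surjective φ)
    (hc : φ.ker ≤ center S) : LocA p (D.map φ) := by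
  have hmap : ∀ (U : Subgroup T), IsPGroup p U → ∀ u ∈ U, ∃ a, φ a = u ∧ ∃ k : ℕ, a ^ p ^ k = 1 := by
    intro U hU u hu
    obtain ⟨k, hk⟩ := pelt_of_mem hU hu
    exact exists_p_lift hs hk
  have hconj : ∀ (x a : S), (∃ k : ℕ, a ^ p ^ k = 1) → ∃ k : ℕ, (x * a * x⁻¹) ^ p ^ k = 1 := by
    rintro x a ⟨k, hk⟩
    exact ⟨k, by rw [conj_pow, hk]; simp⟩
  refine ⟨h.pg.map φ, ?_, ?_, ?_⟩
  · rintro _ ⟨a, ha, rfl⟩ _ ⟨b, hb, rfl⟩
    exact (h.ab a ha b hb).map φ
  · obtain ⟨g, hg, hgD, hmax⟩ := h.syl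
    refine ⟨φ g, reg_map' hg, ?_, fun P hP hle hcP => ?_⟩
    · rintro _ ⟨d, hd, rfl⟩
      exact (hgD d hd).map φ
    · obtain ⟨P', hP', hPm⟩ := exists_plift (p := p) hc hP
      have h1 := hmax P' hP' (fun d hd => (hPm d).2 ⟨hle ⟨d, hd, rfl⟩, h.pelt hd⟩) fun k hk => by
        obtain ⟨h2, j, hj⟩ := (hPm k).1 hk
        exact commute_p_reg hc (hcP _ h2) hj hg
      intro u hu
      obtain ⟨a, rfl, ha⟩ := hmap P hP u hu
      exact ⟨a, h1 ((hPm a).2 ⟨hu, ha⟩), rfl⟩
  · intro U hU h2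
    obtain ⟨U', hU', hUm⟩ := exists_plift (p := p) hc hU
    have h3 := h.core U' hU'
      (fun x hx u hu => (hUm _).2 ⟨by
        rw [map_mul, map_mul, map_inv]
        refine h2 _ ?_ _ ((hUm u).1 hu).1
        rintro _ ⟨d, hd, rfl⟩
        exact (hx d hd).map φ, hconj x u ((hUm u).1 hu).2⟩)
    intro u hu
    obtain ⟨a, rfl, ha⟩ := hmap U hU u hu
    exact ⟨a, h3 ((hUm a).2 ⟨hu, ha⟩), rfl⟩

omit hp in
theorem card_map_mul [Finite S] {T : Type v} [Group T] (φ : S →* T) (D : Subgroup S) :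
    Nat.card D ∣ Nat.card (D.map φ) * Nat.card φ.ker := by
  have h1 := (φ.comp D.subtype).ker.card_mul_index
  rw [index_ker, MonoidHom.range_comp, range_subtype, ← MonoidHom.comap_ker] at h1
  rw [← h1, mul_comm]
  exact Nat.mul_dvd_mul_left _ (card_comap_dvd_of_injective _ _ (subtype_injective D))

/-- **recursion**: `C(y) / ⟨y⟩ ≅ T` for an element `y` of order `p` -/
theorem LocA.descend [Finite S] (h : LocA p D) {y : S} (hy : y ∈ D) (ho : orderOf y = p)
    {T : Type v} [Group T] (φ : centralizer ({y} : Set S) →* T) (hs : Function.Surjective φ)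
    (hk : ∀ n, φ n = 1 → (n : S) ∈ zpowers y) {d : ℕ} (hT : NoA p d T) : ¬ p ^ (d + 1) ∣ Nat.card D := by
  intro h0
  have hle : D ≤ centralizer ({y} : Set S) := fun a ha => mem_centralizer_singleton_iff.2 (h.ab a ha y hy)
  refine hT _ ((h.cent hy).quot φ hs (fun n hn => mem_center_iff.2 fun g => Subtype.ext ?_)) ?_
  · exact (commute_of_mem_zpowers (mem_centralizer_singleton_iff.1 g.2).symm (hk n hn)).symm
  · have h1 := card_map_mul φ (D.subgroupOf (centralizer ({y} : Set S)))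
    rw [Nat.card_congr (subgroupOfEquivOfLe hle).toEquiv] at h1
    have h2 : Nat.card φ.ker ∣ p := by
      rw [← ho, ← Nat.card_zpowers, ← card_map_of_injective (subtype_injective _)]
      refine card_dvd_of_le ?_
      rintro _ ⟨n, hn, rfl⟩
      exact hk n hn
    have h3 := (h0.trans h1).trans (Nat.mul_dvd_mul_left _ h2)
    rw [pow_succ] at h3
    exact Nat.dvd_of_mul_dvd_mul_right hp.out.pos h3

omit hp in
theorem LocA.regTriv (h : LocA p D) {y : S} (hy : y ∈ D) (hc : Constr p y) : RegTriv p D := by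
  obtain ⟨U, hU, hn, hr⟩ := hc
  exact hr.mono (h.core U hU fun x hx => hn x (hx y hy))

/-- a Sylow subgroup -/
theorem LocA.abS [Finite S] (h : LocA p D)
    (hmax : ∀ P : Subgroup S, IsPGroup p P → D ≤ P → P ≤ D) : LV.AbS p S := by
  obtain ⟨Q, hQ⟩ := h.pg.exists_le_sylow
  have hQD : (Q : Subgroup S) = D := le_antisymm (hmax _ Q.isPGroup' hQ) hQ
  intro P
  obtain ⟨g, rfl⟩ := MulAction.exists_smul_eq S Q P
  refine comm_of_forall ?_
  rintro _ ⟨a, ha, rfl⟩ _ ⟨b, hb, rfl⟩
  exact (h.ab a (hQD ▸ ha) b (hQD ▸ hb)).map _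

theorem LocA.not_constr [Finite S] (h : LocA p D) (hS : ¬ LV.AbS p S) {y : S} (hy : y ∈ D) : ¬ Constr p y := by
  intro hc
  obtain ⟨g, hg, hgD, hmax⟩ := h.syl
  exact hS (h.abS fun P hP hle => hmax P hP hle fun k _ => by
    rw [h.regTriv hy hc g hgD hg]; exact Commute.one_right k)

theorem NoA.congr [Finite S] {T : Type v} [Group T] {d : ℕ} (h : NoA p d T) (e : T ≃* S) : NoA p d S := by
  intro D hD h0
  refine h _ (hD.congr e) ?_
  rw [← card_map_of_injective (K := D.comap e.toMonoidHom) (f := e.toMonoidHom) e.injective,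
    map_comap_eq_self_of_surjective e.surjective]
  exact h0

omit hp in
theorem NoA.mono {d e : ℕ} (h : NoA p d S) (hde : d ≤ e) : NoA p e S :=
  fun D hD h0 => h D hD ((pow_dvd_pow p hde).trans h0)

omit hp in
theorem noA_of_card {d : ℕ} (h : ¬ p ^ d ∣ Nat.card S) : NoA p d S :=
  fun D _ h0 => h (h0.trans (card_subgroup_dvd_card D))

/-- the Sylow subgroups have order `p ^ d` and are not abelian -/
theorem noA_of_syl [Finite S] {d : ℕ} (h : ¬ p ^ (d + 1) ∣ Nat.card S) (hS : ¬ LV.AbS p S) : NoA p d S := by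
  intro D hD h0
  refine hS (hD.abS fun P hP hle => ?_)
  obtain ⟨n, hn⟩ := hP.exists_card_eq
  have h1 : n ≤ d := by
    by_contra h2
    exact h ((pow_dvd_pow p (by omega)).trans (hn ▸ card_subgroup_dvd_card P))
  have h2 : Nat.card P ≤ Nat.card D :=
    (hn ▸ Nat.pow_le_pow_right hp.out.pos h1).trans (Nat.le_of_dvd Nat.card_pos h0)
  exact (eq_of_le_of_card_ge hle h2).ge

/-- an abelian defect group -/
theorem locA_of_block {G : Type u} [Group G] [Finite G] {M : Ideal AlgInt} (hM : IsPModular p M)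
    {B : Set (IrrCharacter G)} (hB : IsPBlock M B) {D : Subgroup G} (hD : IsDefectGroup p M B D)
    (hab : IsMulCommutative D) : LocA p D := by
  have hDp := BHZ.Nil.isPGroup_defect hD
  obtain ⟨g, hg, hgD, hmax⟩ := BHZ.Nil.exists_reg_defect hM hB hD
  have hgD' : ∀ d ∈ D, Commute d g := fun d hd => mem_centralizer_iff.1 hgD d hd
  have hA := forall_of_comm hab
  refine ⟨hDp, hA, ⟨g, hg, hgD', fun P hP hle hc => (hmax P hP hle hc).le⟩, fun U hU h2 => ?_⟩
  have h1 : ∀ x ∈ D, ∀ u ∈ U, x * u * x⁻¹ ∈ U := fun x hx => h2 x fun d hd => hA d hd x hx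
  let C : Subgroup G := centralizer (D : Set G)
  have hW : (pCore p C).map C.subtype ≤ D := by
    have := Lib.Cores.pCore_characteristic (G := C) p
    refine BHZ.Nil.defect_rad hM hB hD ((Lib.Cores.pCore_isPGroup p).map _) (fun n hn => ?_)
      ((map_subtype_le _).trans (Subgroup.centralizer_le_normalizer _))
    have hnC : n ∈ normalizer (C : Set G) := H644.mem_normalizer_centralizer hn
    refine mem_normalizer_fintype ?_
    rintro _ ⟨w, hw, rfl⟩
    have h3 := (characteristic_iff_map_le.1 this) (C.normalizerMonoidHom ⟨n, hnC⟩) ⟨w, hw, rfl⟩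
    exact ⟨_, h3, rfl⟩
  have hUC : U ⊓ C ≤ D := by
    refine le_trans ?_ hW
    have h3 : U.subgroupOf C ≤ pCore p C := Lib.Cores.le_pCore
      ⟨fun u hu c => h2 c (fun d hd => mem_centralizer_iff.1 c.2 d hd) u hu⟩ hU.comap_subtype
    have h4 := map_mono (f := C.subtype) h3
    rwa [subgroupOf_map_subtype] at h4
  have h5 := S0028.result p D (zpowers g) U hDp (by
      rw [Nat.card_zpowers]
      exact ((Nat.Prime.coprime_iff_not_dvd hp.out).2 hg).symm) hU
    (fun d hd => mem_centralizer_iff.2 fun w hw => commute_of_mem_zpowers (hgD' d hd).symm hw)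
    (fun d hd => mem_normalizer_fintype (h1 d hd))
    (zpowers_le.2 (mem_normalizer_fintype (h2 g hgD')))
    (fun u hu => mem_centralizer_iff.2 fun w hw => commute_of_mem_zpowers (hgD' u (hUC hu)).symm hw)
  have h6 := hmax (D ⊔ U) (isPGroup_sup hDp hU h1) le_sup_left
    (commute_of_mem_sup hgD' fun u hu => mem_centralizer_iff.1 (h5 (mem_zpowers g)) u hu)
  exact le_sup_right.trans h6.le

section rows

variable {M : Ideal AlgInt} {K : Type} [Group K] [Finite K] {B : Set (IrrCharacter K)} {E : Subgroup K}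
  {T : Type} [Group T] {σ : K →* T}

theorem hyp_loc (H : Hyp p M B E σ) : LocA p (E.map σ) :=
  (locA_of_block H.hM H.hB H.hD H.ab).quot σ H.surj H.ker.le

theorem hyp_dvd (H : Hyp p M B E σ) {d : ℕ} (h : p ^ d ∣ Nat.card E) : p ^ d ∣ Nat.card (E.map σ) := by
  refine Nat.Coprime.dvd_of_dvd_mul_right ?_ (h.trans (card_map_mul σ E))
  rw [H.ker]
  exact ((Nat.Prime.coprime_iff_not_dvd hp.out).2 H.zp).pow_left d

theorem hyp_cube (H : Hyp p M B E σ) : p ^ 3 ∣ Nat.card (E.map σ) :=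
  hyp_dvd H (by rw [S0908.result p M H.hM B H.hB E H.hD]; exact pow_dvd_pow p H.big)

/-- **the row from `NoA p 3`** -/
theorem row_of_noA (h : NoA p 3 T) : Row p T := fun _ _ _ _ _ _ _ H => absurd (hyp_cube H) (h _ (hyp_loc H))

/-- **the row for `p = 2`** -/
theorem row_two (h : NoA 2 5 T) : Row 2 T := by
  intro K _ _ σ M B E H
  have : Fact (Nat.Prime 2) := ⟨Nat.prime_two⟩
  refine Two.hz_small H.hM H.hB H.hD (BK.ab_iff.2 H.ab) ?_
  have h1 := S0908.result 2 M H.hM B H.hB E H.hD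
  have h2 : blockDefect 2 B ≤ 4 := by
    by_contra h3
    exact h _ (hyp_loc H) (hyp_dvd H (by rw [h1]; exact pow_dvd_pow 2 (by omega)))
  rw [h1]
  exact Nat.pow_le_pow_right (by norm_num) h2

end rows

end Cfsg.Agent.KM.Sp
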