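import Cfsg.Agent.KM.Ex.Kac
import Cfsg.Agent.KM.Xc.Tor
import Cfsg.Agent.H371.HT.Three
import Cfsg.Agent.LV.Red.Ab

/-!
# KM, exceptional covers: `F₄(2)` at the prime `3` (helper67)

* `toral_of_loc` : the argument of `KM.Ex.torB_one` for a subgroup with the local property;
* `xF2_three : KM.Ex.XF2 3`.
-/

set_option autoImplicit false
set_option linter.unusedSectionVars false

namespace Cfsg.Agent.KM.Sp.F42

open Cfsg Cfsg.Lie Cfsg.Agent.DL Cfsg.Agent.DL.Asm Cfsg.Agent.Nodes.Reps Cfsg.Agent.Nodes.BNOf Matrix Subgroup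
  Cfsg.Agent.KM.Ht Cfsg.Agent.KM.Tor Cfsg.Agent.KM.Ex Cfsg.Agent.KM.Xc Cfsg.Agent.KZ.DatX
open Cfsg.Agent.TO.X.Cn (Pi1 exists_exp mem_cen pi1 pm_F4)

section gen

variable {p : ℕ} [Fact p.Prime] {k : Type} [Field k] [CharP k p] {Y : Type} [Group Y] {N : Type} [Fintype N]
  [DecidableEq N] {ρ : Y →* GL N k} {F : MulAut Y} {G : Subgroup Y} [IsAlgClosed k] {X : Datum p ρ F G} {f l : ℕ}

theorem fq_mx (D : Datum p ρ F G) [Nonempty D.R] {n : ℕ} (h : D.Mx = (p : ℤ) ^ n • (1 : Matrix D.R D.R ℤ)) :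
    SB.Exc.Card.Fq p ρ F n := by
  obtain ⟨d, e, H⟩ := D.exists_split'
  have h1 : ((p : ℤ) ^ e) • (1 : Matrix D.R D.R ℤ) = ((p : ℤ) ^ (n * d)) • (1 : Matrix D.R D.R ℤ) := by
    have h2 := D.Mx_pow H
    simp only [h, _root_.smul_pow, one_pow, ← pow_mul] at h2
    exact h2.symm
  have h2 := smul_left_injective ℤ (one_ne_zero (α := Matrix D.R D.R ℤ)) h1
  have h3 : e = n * d := Nat.pow_right_injective (Fact.out : p.Prime).two_le (by exact_mod_cast h2)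
  exact ⟨Nat.pos_of_mul_pos_right (h3 ▸ H.e_pos), d, H.d_pos, h3 ▸ H.frob⟩

theorem toral_of_loc [hl' : Fact l.Prime] (h : Pi1 X f) (hp : l ≠ p) (hf : l.Coprime f) (hL : NL X l) (hT : Two X l)
    (hA : ¬ LV.AbS l ↥(GF F G)) {D : Subgroup ↥(GF F G)} (H : LocA l D) (hnc : ¬ IsCyclic D) :
    Toral X (D.map (GF F G).subtype) := by
  have := X.amb.finite_GF G
  have hl := hl'.out
  have hfin : ((D.map (GF F G).subtype : Subgroup Y) : Set Y).Finite := (Set.toFinite (D : Set ↥(GF F G))).image _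
  have hG : D.map (GF F G).subtype ≤ G := fun _ ⟨z, _, e⟩ => e ▸ z.2.1
  have hF : ∀ z ∈ D.map (GF F G).subtype, F z = z := fun _ ⟨z, _, e⟩ => e ▸ z.2.2
  have he : El l (D.map (GF F G).subtype : Set Y) := fun _ ⟨z, hz, e⟩ =>
    (H.pelt hz).imp fun _ hj => e ▸ congrArg Subtype.val hj
  have hc : ∀ a ∈ D.map (GF F G).subtype, ∀ b ∈ D.map (GF F G).subtype, a * b = b * a :=
    fun _ ⟨a, ha, e⟩ _ ⟨b, hb, e'⟩ => e ▸ e' ▸ congrArg Subtype.val (H.ab a ha b hb)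
  by_contra hn
  have h1 := fun t ht g hg h1 h2 =>
    hn (toral_of (t := t) (g := g) h hl hp hf hL hfin hG (fun z hz => (hF z hz).symm ▸ hz) he hc ht hg h1 h2)
  have : IsMulCommutative (⊤ : Subgroup D) :=
    ⟨⟨fun a b => Subtype.ext (Subtype.ext (H.ab _ a.1.2 _ b.1.2))⟩⟩
  obtain ⟨z, t, -, z1, z2, t1, t2, -⟩ := H548.PDich.exists_zw H.pg ⊤ this fun e => hnc (Subgroup.topEquiv.isCyclic.1 e)
  let ι : D →* Y := (GF F G).subtype.comp D.subtype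
  have hι : Function.Injective ι := Subtype.val_injective.comp Subtype.val_injective
  have m : ∀ d : D, ι d ∈ D.map (GF F G).subtype := fun d => ⟨d, d.2, rfl⟩
  have z3 : ι z ^ l = 1 := by rw [← map_pow, z1, map_one]
  have t3 : ι t ^ l = 1 := by rw [← map_pow, t1, map_one]
  obtain ⟨g, hg, h2⟩ := toral_cen (X := X) (Set.empty_subset _) Set.finite_empty (cc_empty _ (hG (m z)) fun _ h => h.elim)
    (not_dvd_ord hl hp (j := 1) (by rwa [pow_one]))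
  replace hg := X.cen_le_G _ hg
  obtain ⟨c, hc1, h3⟩ := toral_cen (Set.singleton_subset_iff.2 h2) (Set.finite_singleton _) (y := g⁻¹ * ι t * g)
    (mem_cen h h2 (conj_pow_eq z3) hf (mul_mem (mul_mem (inv_mem hg) (hG (m t))) hg) (
      calc _ = g⁻¹ * (ι t * ι z) * g := by group
        _ = _ := by rw [hc _ (m t) _ (m z)]; group)) (not_dvd_ord hl hp (j := 1) (by rw [pow_one]; exact conj_pow_eq t3))
  obtain ⟨y, hy, hN, h4, -⟩ := SB.Exc.Max.exists_conj_le_T X (Z := {ι z, ι t}) (by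
      rintro _ (rfl | rfl)
      · exact .inl (hF _ (m z))
      · exact .inr (hF _ (m t))) (mul_mem hg (X.cen_le_G _ hc1)) (by
      rintro _ (rfl | rfl)
      · rwa [show (g * c)⁻¹ * ι z * (g * c) = c⁻¹ * (g⁻¹ * ι z * g * c) by group,
          X.cen_le_centralizer (Set.singleton_subset_iff.2 h2) hc1 _ rfl, inv_mul_cancel_left]
      · rwa [show (g * c)⁻¹ * ι t * (g * c) = c⁻¹ * (g⁻¹ * ι t * g) * c by group])
  have h5 := sz_empty (X := X.conj hy hN) hl hp hT (h4 (.inl rfl)) (h4 (.inr rfl)) z3 (fun e => z2 (hι (e.trans ι.map_one.symm)))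
    t3 (fun ⟨n, e⟩ => t2 ⟨n, hι ((map_zpow ι z n).trans e)⟩) fun i j e => by
      have h5 := mem_cj.1 (mul_mem (zpow_mem (h4 (.inl rfl)) i) (zpow_mem (h4 (.inr rfl)) j))
      exact h1 _ (mul_mem (zpow_mem (m z) i) (zpow_mem (m t) j)) y hy h5
        (e.imp fun v hv => ⟨hv.1, sz_conj hy hN h5 ▸ hv.2⟩)
  have h6 : ({ι z, ι t} : Set Y) ⊆ D.map (GF F G).subtype := by
    rintro _ (rfl | rfl)
    exacts [m z, m t]
  by_cases h7 : ∀ d ∈ D.map (GF F G).subtype, d ∈ (X.conj hy hN).T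
  · refine hn ⟨y, hy, hN, fun d hd => ?_⟩
    obtain ⟨ζ, v, -, -, e⟩ := exists_exp _ (h7 d hd)
    exact e ▸ Ht.mem_Z0 (fun b hb => (h5.subset (Sz_anti h6 hb)).elim) ζ
  push Not at h7
  obtain ⟨u, hu, h7⟩ := h7
  obtain ⟨j, hj⟩ := he u hu
  obtain ⟨s, s1, s2, s3⟩ := H.syl
  have s4 : ∀ d ∈ D.map (GF F G).subtype, d * s = s * d := fun _ ⟨d, hd, e⟩ => e ▸ congrArg Subtype.val (s2 d hd)
  have s5 : s = 1 := Subtype.ext (no_reg (h.conj hy hN) hl hp hf hL (Set.toFinite _) h4 (fun z hz => he z (h6 hz)) h5 (hG hu)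
    (fun z hz => hc z (h6 hz) u hu) h7 hj s.2.1 (fun z hz => s4 z (h6 hz)) (s4 u hu) (by rwa [orderOf_coe]))
  exact hA (H.abS fun P hP hle => s3 P hP hle fun x _ => s5 ▸ Commute.one_right x)

/-- a subgroup with the local property lies in a rational torus -/
theorem tor_of_loc [hl' : Fact l.Prime] (h : Pi1 X f) (hp : l ≠ p) (hf : l.Coprime f) (hL : NL X l) (hT : Two X l)
    (hA : ¬ LV.AbS l ↥(GF F G)) {D : Subgroup ↥(GF F G)} (H : LocA l D) :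
    ∃ T ∈ tori X, ∀ d ∈ D, (d : Y) ∈ T := by
  by_cases hc : IsCyclic D
  · obtain ⟨z, hz⟩ := hc.exists_generator
    obtain ⟨j, hj⟩ := H.pelt z.2
    obtain ⟨g, hg, h2⟩ := toral_cen (X := X) (Set.empty_subset _) Set.finite_empty
      (cc_empty _ z.1.2.1 fun _ h => h.elim) (not_dvd_ord hl'.out hp (j := j) (congrArg Subtype.val hj))
    obtain ⟨y, hy, hN, h4, -⟩ := SB.Exc.Max.exists_conj_le_T X (Z := {z.1.1})
      (by rintro _ rfl; exact z.1.2.2) (X.cen_le_G _ hg) (by rintro _ rfl; exact h2)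
    refine ⟨_, ⟨y, hy, rfl, (X.stable_iff hy).2 hN⟩, fun d hd => ?_⟩
    obtain ⟨n, hn⟩ := hz ⟨d, hd⟩
    have h5 : (d : Y) = z.1.1 ^ n := (congrArg (fun x : D => x.1.1) hn).symm
    exact h5 ▸ zpow_mem (h4 rfl) n
  · obtain ⟨y, hy, hN, h1⟩ := toral_of_loc h hp hf hL hT hA H hc
    exact ⟨_, ⟨y, hy, rfl, (X.stable_iff hy).2 hN⟩, fun d hd => Z0_le_T _ _ (h1 ⟨d, hd, rfl⟩)⟩

theorem noA_one [Fact l.Prime] (h : Pi1 X f) (hp : l ≠ p) (hf : l.Coprime f) (hL : NL X l) (hT : Two X l)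
    (hA : ¬ LV.AbS l ↥(GF F G)) {d : ℕ} (hb : (Cv.ofEquiv (MulEquiv.refl ↥(GF F G))).TB X l (l ^ d)) :
    NoA l d ↥(GF F G) := fun D H h0 => by
  obtain ⟨T, h1, h2⟩ := tor_of_loc h hp hf hL hT hA H
  exact hA ((Cv.ofEquiv (MulEquiv.refl ↥(GF F G))).abS_of_tor X hp H hb (E := D) H.pg h0 (fun _ hz => hz) h1 h2)

end gen

theorem noA_f42 (F : Type) [Field F] [Fintype F] (hF : Fintype.card F = 2) : NoA 3 3 ↥(chevF4.group F) := by
  have : Fact (Nat.Prime 2) := ⟨Nat.prime_two⟩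
  have : Fact (Nat.Prime 3) := ⟨Nat.prime_three⟩
  have : CharP F 2 := charP_of_card_eq_prime hF
  obtain ⟨k, _, _, _, X, -, ⟨s⟩⟩ := Nt.has_F4 (r := 2) (e := 1) (F := F) hF
  have := X.finite
  have : Finite ↥(chevF4.group F) := Finite.of_injective _ s.ov.hom_inj
  have : Nonempty X.D.R := ⟨(0 : Fin 4)⟩
  refine (noA_one (pi1 X pm_F4) (by decide) (Nat.coprime_one_right 3) (nl_of X Nat.prime_three bad_F4)
    (two_of X Nat.prime_three bad_F4 twoC_F4) (fun e => H371.HT.not_ab_untw (D := chevF4) (by simp) (by rw [hF]; decide)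
      (LV.AbS.of_inj e _ s.ov.hom_inj))
    (Cv.tb_of_bound _ _ (fq_mx X.D X.D_Mx) (fun s hs h2 h3 => five_le hs h2 h3) ?_)).congr s.ov.equiv.symm
  show (2 ^ 1 + 1) ^ Fintype.card (Fin 4) < 3 ^ 3 * 5
  rw [Fintype.card_fin]
  decide

end Cfsg.Agent.KM.Sp.F42

/-- **`F₄(2)` at the prime `3`** -/
theorem Cfsg.Agent.KM.Sp.xF2_three : Cfsg.Agent.KM.Ex.XF2 3 :=
  fun F _ _ h =>
    have : Fact (Nat.Prime 3) := ⟨Nat.prime_three⟩
    Cfsg.Agent.KM.Sp.row_of_noA (Cfsg.Agent.KM.Sp.F42.noA_f42 F h)
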