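import Cfsg.Agent.KM.Sp.Loc
import Cfsg.Agent.TAB.Use.Main
import Cfsg.Agent.TAB.Eng.Norm
import Cfsg.Agent.Blocks.AvgIntegral
import Cfsg.Agent.Blocks.Central
import Cfsg.Agent.Characters.Linear
import Cfsg.Agent.H599.Galois
import Cfsg.Agent.TAB.ON.Op

/-!
# KM, sporadic rows: the engine for tables (helper67)

* `key` : a congruence for generalized characters of abelian groups;
* `cbd` : a multiple of the orders of the centralizers;
* `kill` : no abelian `p`-subgroup of order divisible by `p ^ d` centralizes an element of a given type;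
* `noA_tab`, `not_abS_tab` : the checks.
-/

set_option autoImplicit false
set_option linter.unusedSectionVars false

namespace Cfsg.Agent.KM.Sp

open Cfsg Subgroup Cfsg.Agent.BHZ.Spor Cfsg.Agent.TAB.Eng Cfsg.Agent.TAB.Use Cfsg.Agent.Characters

universe u v

/-- **the congruence** -/
theorem key {A : Type u} [Group A] [Finite A] (hA : ∀ a b : A, a * b = b * a) (Q : Subgroup A) (t : A) {y : A}
    (hy : y ∈ Q) (hy1 : y ≠ 1) {w c : A → ℤ} (hw : IsGeneralizedCharacter A fun a => (w a : ℂ))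
    (hc : ∀ q, c (t * (y * q)) = c (t * q)) {m : ℕ} (hm : m ∣ Nat.card Q)
    (h : ∀ q ∈ Q, q ≠ 1 → (m : ℤ) ∣ w (t * q) - c (t * q)) : (m : ℤ) ∣ w t - c t := by
  classical
  let : CommGroup A := { ‹Group A› with mul_comm := hA }
  have := Fintype.ofFinite Q
  have : NeZero (Monoid.exponent A) := ⟨Monoid.exponent_ne_zero_of_finite⟩
  obtain ⟨l, hl⟩ := CommGroup.exists_apply_ne_one_of_hasEnoughRootsOfUnity A ℂ hy1
  have hint : ∀ a : A, IsIntegral ℤ (l a : ℂ) := fun a =>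
    IsIntegral.of_pow (orderOf_pos a) (by
      rw [← Units.val_pow_eq_pow_val, ← map_pow, pow_orderOf_eq_one, map_one, Units.val_one]
      exact isIntegral_one)
  have h1 := Blocks.AvgIntegral.isIntegral_avg_generalized (Brauer.isGeneralizedCharacter_mul hw
    (Brauer.isGeneralizedCharacter_of_isCharacter (Linear.isCharacter_hom l))) Q t fun q _ => hA t q
  have h2 : ∑ q : Q, (c (t * q) : ℂ) * l (t * q) = 0 := by
    have h3 := Equiv.sum_comp (Equiv.mulLeft (⟨y, hy⟩ : Q)) fun q : Q => (c (t * q) : ℂ) * l (t * q)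
    have h4 : ∀ q : Q, (c (t * (Equiv.mulLeft (⟨y, hy⟩ : Q) q : Q)) : ℂ) * l (t * (Equiv.mulLeft (⟨y, hy⟩ : Q) q : Q)) =
        l y * ((c (t * q) : ℂ) * l (t * q)) := fun q => by
      show (c (t * (y * q)) : ℂ) * l (t * (y * q)) = _
      rw [hc]
      simp only [map_mul, Units.val_mul]
      ring
    rw [Finset.sum_congr rfl fun q _ => h4 q, ← Finset.mul_sum] at h3
    have h5 : ((l y : ℂ) - 1) * ∑ q : Q, (c (t * q) : ℂ) * l (t * q) = 0 := by rw [sub_mul, h3, one_mul, sub_self]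
    exact (mul_eq_zero.1 h5).resolve_left fun h6 => hl (Units.ext (sub_eq_zero.1 h6))
  obtain ⟨n, hn⟩ := hm
  have hm0 : (m : ℂ) ≠ 0 := by
    have : m ≠ 0 := fun h0 => Nat.card_pos.ne' (by rw [hn, h0, zero_mul])
    exact_mod_cast this
  have hQ : (Nat.card Q : ℂ) ≠ 0 := by exact_mod_cast Nat.card_pos.ne'
  refine H599.Galois.nat_dvd_of_integral (by exact_mod_cast hm0) ?_
  have h6 : ∀ q ∈ (Finset.univ : Finset Q).erase 1,
      IsIntegral ℤ (((w (t * q) - c (t * q) : ℤ) : ℂ) / m * l (t * q)) := fun q hq => by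
    obtain ⟨k, hk⟩ := h q q.2 fun h0 => (Finset.mem_erase.1 hq).1 (Subtype.ext h0)
    rw [hk]
    push_cast
    rw [mul_div_cancel_left₀ _ hm0]
    exact (isIntegral_algebraMap (R := ℤ) (A := ℂ) (x := k)).mul (hint _)
  have h7 := (((isIntegral_algebraMap (R := ℤ) (A := ℂ) (x := n)).mul h1).sub (IsIntegral.sum _ h6)).mul (hint t⁻¹)
  refine (congrArg (IsIntegral ℤ) ?_).mpr h7
  have h8 := Finset.add_sum_erase (Finset.univ : Finset Q)
    (fun q => ((w (t * q) - c (t * q) : ℤ) : ℂ) / m * l (t * q)) (Finset.mem_univ 1)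
  have h9 : ∑ q : Q, ((w (t * q) - c (t * q) : ℤ) : ℂ) / m * l (t * q) =
      (m : ℂ)⁻¹ * ∑ q : Q, (w (t * q) : ℂ) * l (t * q) := by
    rw [← sub_zero (∑ q : Q, (w (t * q) : ℂ) * l (t * q)), ← h2, ← Finset.sum_sub_distrib, Finset.mul_sum]
    refine Finset.sum_congr rfl fun q _ => ?_
    push_cast
    ring
  have h10 : (l t : ℂ) * l t⁻¹ = 1 := by rw [← Units.val_mul, ← map_mul, mul_inv_cancel, map_one, Units.val_one]
  have h11 : (algebraMap ℤ ℂ (n : ℤ)) * (Nat.card Q : ℂ)⁻¹ = (m : ℂ)⁻¹ := by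
    have h12 : (Nat.card Q : ℂ) = m * n := by exact_mod_cast hn
    rw [h12] at hQ ⊢
    have := right_ne_zero_of_mul hQ
    simp only [eq_intCast, Int.cast_natCast]
    field_simp
  show _ = (algebraMap ℤ ℂ (n : ℤ) * ((Nat.card Q : ℂ)⁻¹ * ∑ q : Q, (w (t * q) : ℂ) * l (t * q)) - _) * _
  rw [← mul_assoc, h11, ← h9, ← h8]
  simp only [OneMemClass.coe_one, mul_one, add_sub_cancel_right, Int.cast_natCast]
  rw [mul_assoc, h10, mul_one]

variable {G : Type u} [Group G] [Finite G] {D : Dat} {T : TD G D} {R : TAB.Use.Rows} {p : ℕ} [hp : Fact p.Prime]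

/-- the relation with the number `a` -/
def rl (R : TAB.Use.Rows) (a : ℕ) : List (ℕ × ℤ) × List ℤ := R.rel.getD a ([], [])

omit [Finite G] in
theorem rel_rl {χ : ℕ → G → ℂ} (h : TAB.Use.Rel T R χ) (a : ℕ) (g : G) :
    ((rl R a).1.map fun x => (x.2 : ℂ) * χ x.1 g).sum = (((rl R a).2.getD (T.ty g) 0 : ℤ) : ℂ) := by
  unfold rl
  by_cases ha : a < R.rel.length
  · rw [List.getD_eq_getElem _ _ ha]
    exact h _ (List.getElem_mem ha) g
  · rw [List.getD_eq_default _ _ (not_lt.1 ha)]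
    simp

/-- a multiple of the orders of the centralizers of the elements of type `i` -/
def cbd (D : Dat) (R : TAB.Use.Rows) (X : List (ℕ × ℕ)) (i a : ℕ) : ℕ :=
  if (rl R a).1 = [(((rl R a).1.headD (0, 0)).1, 1)] ∧ ((rl R a).1.headD (0, 0)).1 < R.n ∧ (rl R a).2.getD i 0 ≠ 0 then
    D.N * ((rl R a).2.getD i 0).natAbs / R.d ((rl R a).1.headD (0, 0)).1
  else if look X i = 0 then D.N else look X i

/-- a table with bounds for some centralizers -/
structure Hy (T : TD G D) (R : TAB.Use.Rows) (X : List (ℕ × ℕ)) : Prop where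
  mass : T.Mass
  tab : Tab T R
  bd : ∀ e ∈ X, ∀ g, T.ty g = e.1 → Nat.card (centralizer ({g} : Set G)) ∣ e.2

omit [Finite G] in
theorem Hy.nil (hm : T.Mass) (hT : Tab T R) : Hy T R [] := ⟨hm, hT, fun _ h => absurd h List.not_mem_nil⟩

theorem look_mem (X : List (ℕ × ℕ)) (i : ℕ) (h : look X i ≠ 0) : (i, look X i) ∈ X := by
  induction X with
  | nil => exact absurd rfl h
  | cons e X ih =>
    unfold look at h ⊢
    split_ifs at h ⊢ with h1
    · rw [← h1]
      exact List.mem_cons_self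
    · exact List.mem_cons_of_mem _ (ih h)

variable {X : List (ℕ × ℕ)}

theorem card_dvd_cbd (H : Hy T R X) (g : G) (a : ℕ) :
    Nat.card (centralizer ({g} : Set G)) ∣ cbd D R X (T.ty g) a := by
  unfold cbd
  have hN := H.mass.1
  split_ifs with h h'
  · obtain ⟨χ, hE, hR⟩ := H.tab
    obtain ⟨h1, h2, -⟩ := h
    generalize ((rl R a).1.headD (0, 0)).1 = j at h1 h2
    have h3 := rel_rl hR a g
    rw [h1] at h3
    simp only [List.map_cons, Int.cast_one, one_mul, List.map_nil, List.sum_cons, List.sum_nil, add_zero] at h3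
    have h4 := Blocks.Central.isIntegral_centralChar (hE.irr j h2) g
    have h5 : R.d j ≠ 0 := fun h0 => Blocks.ConvCentral.irr_one_ne_zero (hE.irr j h2) (by rw [hE.deg j h2, h0, Nat.cast_zero])
    rw [centralChar, h3, hE.deg j h2] at h4
    have h6 : (R.d j : ℤ) ∣ (centralizer ({g} : Set G)).index * (rl R a).2.getD (T.ty g) 0 :=
      H599.Galois.nat_dvd_of_integral (by exact_mod_cast h5) (by push_cast; exact h4)
    have h7 := Int.natAbs_dvd_natAbs.2 h6
    rw [Int.natAbs_mul, Int.natAbs_natCast, Int.natAbs_natCast] at h7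
    rw [← hN, ← (centralizer ({g} : Set G)).card_mul_index, mul_assoc, Nat.mul_div_assoc _ h7]
    exact dvd_mul_right _ _
  · exact hN ▸ card_subgroup_dvd_card _
  · exact H.bd _ (look_mem X _ h') g rfl

/-- upper bounds of the `p`-parts of the centralizers -/
def ubB (D : Dat) (R : TAB.Use.Rows) (X : List (ℕ × ℕ)) (p : ℕ) (U A : List ℕ) : Bool :=
  (List.range D.n).all fun i => cbd D R X i (A.getD i 0) % p ^ (U.getD i 0 + 1) != 0

omit hp in
theorem le_ub (H : Hy T R X) {U A : List ℕ} (h : ubB D R X p U A = true) {g : G} {d : ℕ}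
    (hd : p ^ d ∣ Nat.card (centralizer ({g} : Set G))) : ¬ U.getD (T.ty g) 0 < d := fun h1 =>
  bne_iff_ne.1 (List.all_eq_true.1 h _ (List.mem_range.2 (T.lt g)))
    (Nat.mod_eq_zero_of_dvd (((pow_dvd_pow p h1).trans hd).trans (card_dvd_cbd H g _)))

/-- a combination of relations -/
def psi (R : TAB.Use.Rows) (c : List (ℤ × ℕ)) (i : ℕ) : ℤ := (c.map fun x => x.1 * (rl R x.2).2.getD i 0).sum

theorem virt_psi (hT : Tab T R) {c : List (ℤ × ℕ)} (h : ∀ x ∈ c, ∀ z ∈ (rl R x.2).1, z.1 < R.n) :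
    Virt T (psi R c) := by
  obtain ⟨χ, hE, hR⟩ := hT
  have h0 : ∀ l : List (ℕ × ℤ), (∀ z ∈ l, z.1 < R.n) →
      IsGeneralizedCharacter G fun g => (l.map fun x => (x.2 : ℂ) * χ x.1 g).sum := fun l hl => by
    induction l with
    | nil => simpa only [Virt, Int.cast_zero, List.map_nil, List.sum_nil] using Virt.const (T := T) 0
    | cons z l ih =>
      exact Brauer.isGeneralizedCharacter_add (Brauer.isGeneralizedCharacter_mul (Virt.const (T := T) z.2)
        (Brauer.isGeneralizedCharacter_of_isCharacter (Core.isIrr_isCharacter (hE.irr _ (hl z List.mem_cons_self)))))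
        (ih fun z hz => hl z (List.mem_cons_of_mem _ hz))
  induction c with
  | nil => exact Virt.const 0
  | cons x c ih =>
    have h1 : Virt T fun i => (rl R x.2).2.getD i 0 := by
      have h2 := h0 _ (h x List.mem_cons_self)
      simp only [rel_rl hR] at h2
      exact h2
    exact (h1.smul x.1).add (ih fun x hx => h x (List.mem_cons_of_mem _ hx))

/-- the check of one section; `K = (s, d, c, v)` -/
def killB (D : Dat) (R : TAB.Use.Rows) (p a : ℕ) (CS U : List ℕ) (K : ℕ × ℕ × List (ℤ × ℕ) × List (ℕ × ℕ)) : Bool :=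
  decide (U.getD K.1 0 < K.2.1) ||
    ((K.2.2.1.all fun x => (rl R x.2).1.all fun z => decide (z.1 < R.n)) &&
      (psi R K.2.2.1 K.1 - look K.2.2.2 (D.pwf K.1 p)) % (p ^ K.2.1 : ℕ) != 0 &&
      (List.range D.n).all fun i => D.ord i % p != 0 || D.pwf i (p ^ a) != D.pwf K.1 (p ^ a) ||
        (psi R K.2.2.1 i - look K.2.2.2 (D.pwf i p)) % (p ^ K.2.1 : ℕ) == 0 ||
        (D.pw i).any fun q => decide (U.getD (D.pwf i q.1) 0 < K.2.1) ||
          (q.1 % D.ord K.1 == 0 && CS.contains (D.pwf i q.1)))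

theorem kill (H : Hy T R X) {a : ℕ} (ha : D.N % p ^ (a + 1) ≠ 0) {U A : List ℕ}
    (hU : ubB D R X p U A = true) {CS : List ℕ} {K : ℕ × ℕ × List (ℤ × ℕ) × List (ℕ × ℕ)}
    (hK : killB D R p a CS U K = true) {E : Subgroup G} (hE : IsPGroup p E) (hab : ∀ x ∈ E, ∀ y ∈ E, Commute x y)
    (hcs : ∀ y ∈ E, T.ty y ∉ CS) {t : G} (ht : ¬ p ∣ orderOf t) (hc : ∀ x ∈ E, Commute x t) (hs : T.ty t = K.1) :
    ¬ p ^ K.2.1 ∣ Nat.card E := by
  intro hd
  obtain ⟨s, d, c, v⟩ := K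
  simp only at hs hd
  subst hs
  simp only [killB, Bool.or_eq_true, decide_eq_true_eq, Bool.and_eq_true, List.all_eq_true, bne_iff_ne, ne_eq,
    List.mem_range, beq_iff_eq, List.any_eq_true, List.contains_iff_mem] at hK
  rcases hK with hK | ⟨⟨h1, h2⟩, h3⟩
  · exact le_ub H hU (hd.trans (card_dvd_of_comm hc)) hK
  have hd0 : d ≠ 0 := fun h0 => h2 (by rw [h0, pow_zero, Nat.cast_one, Int.emod_one])
  obtain ⟨y, hy⟩ := exists_prime_orderOf_dvd_card' p (G := E) ((dvd_pow_self p hd0).trans hd)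
  rw [← Subgroup.orderOf_coe] at hy
  let F : Subgroup G := E ⊔ zpowers t
  have hF1 : ∀ x ∈ E, ∀ k ∈ F, Commute k x := fun x hx =>
    commute_of_mem_sup (fun z hz => hab z hz x hx) fun z hz => commute_of_mem_zpowers (hc x hx).symm hz
  have hF2 : ∀ k ∈ F, Commute k t := commute_of_mem_sup hc fun z hz => commute_of_mem_zpowers (Commute.refl t) hz
  have hF : ∀ x k : F, x * k = k * x := fun x k => Subtype.ext
    (commute_of_mem_sup (fun z hz => (hF1 z hz k k.2).symm)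
      (fun z hz => commute_of_mem_zpowers (hF2 k k.2).symm hz) x x.2)
  have hEF : E ≤ F := le_sup_left
  have h4 := key hF (E.subgroupOf F) ⟨t, mem_sup_right (mem_zpowers t)⟩ (y := ⟨y, hEF y.2⟩) y.2
    (fun h0 => hp.out.ne_one (by rw [← hy, show (y : G) = 1 from congrArg Subtype.val h0, orderOf_one]))
    (w := fun x => psi R c (T.ty x)) (c := fun x => look v (D.pwf (T.ty x) p)) ((virt_psi H.tab h1).on F) (fun q => ?_)
    (m := p ^ d) (by rwa [Nat.card_congr (subgroupOfEquivOfLe hEF).toEquiv]) (fun q hq hq1 => ?_)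
  · exact h2 (Int.emod_eq_zero_of_dvd h4)
  · show ((look v (D.pwf (T.ty (t * (y * q))) p) : ℕ) : ℤ) = look v (D.pwf (T.ty (t * q)) p)
    have h5 : Commute (y : G) q := (hF1 y y.2 q q.2).symm
    rw [← T.pow, ← T.pow, ((hc y y.2).symm.mul_right (hF2 q q.2).symm).mul_pow, h5.mul_pow, ← hy,
      pow_orderOf_eq_one, one_mul, (hF2 q q.2).symm.mul_pow]
  · have hq' : (q : G) ∈ E := hq
    have h5 : Commute t q := (hc q hq').symm
    obtain ⟨k, hk⟩ := (IsPGroup.iff_orderOf.1 hE) ⟨q, hq'⟩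
    rw [Subgroup.orderOf_mk] at hk
    show ((p ^ d : ℕ) : ℤ) ∣ psi R c (T.ty (t * q)) - look v (D.pwf (T.ty (t * q)) p)
    rcases h3 _ (T.lt (t * q)) with ((h6 | h6) | h6) | ⟨z, -, h6 | ⟨h6, h7⟩⟩
    · refine absurd ?_ h6
      rw [← T.ord, h5.orderOf_mul_eq_mul_orderOf_of_coprime
        (hk ▸ ((Nat.Prime.coprime_iff_not_dvd hp.out).2 ht).symm.pow_right k), hk]
      refine Nat.mod_eq_zero_of_dvd (Dvd.dvd.mul_left (dvd_pow_self p fun h0 => hq1 (Subtype.ext ?_)) _)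
      exact orderOf_eq_one_iff.1 (by rw [hk, h0, pow_zero])
    · refine absurd ?_ h6
      have h7 : k ≤ a := by
        by_contra h8
        exact ha (Nat.mod_eq_zero_of_dvd ((pow_dvd_pow p (by omega)).trans (H.mass.1 ▸ hk ▸ orderOf_dvd_natCard (q : G))))
      rw [← T.pow, ← T.pow, h5.mul_pow, (orderOf_dvd_iff_pow_eq_one (x := (q : G))).1 (hk ▸ pow_dvd_pow p h7), mul_one]
    · exact Int.dvd_of_emod_eq_zero h6
    · rw [← T.pow] at h6
      exact absurd h6 (le_ub H hU (hd.trans (card_dvd_of_comm fun x hx =>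
        ((hc x hx).mul_right (hab x hx q hq')).pow_right _)))
    · rw [← T.pow, h5.mul_pow, orderOf_dvd_iff_pow_eq_one.1 (T.ord t ▸ Nat.dvd_of_mod_eq_zero h6), one_mul] at h7
      exact absurd h7 (hcs _ (pow_mem hq' _))

omit hp in
theorem le_cnt (hm : T.Mass) (x : G) : D.N ≤ D.cnt (T.ty x) * Nat.card (centralizer ({x} : Set G)) := by
  rw [← hm.1, ← card_class x, ← hm.2 _ (T.lt x)]
  refine Nat.mul_le_mul_right _ (Nat.card_le_card_of_injective (fun g => ⟨g.1, ?_⟩) fun a b hab =>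
    Subtype.ext (congrArg Subtype.val hab :))
  obtain ⟨c, hc⟩ := isConj_iff.1 g.2
  rw [← hc, T.conj]

/-- the greatest common divisor of bounds -/
def cbg (D : Dat) (R : TAB.Use.Rows) (X : List (ℕ × ℕ)) (s : ℕ) (L : List ℕ) : ℕ := L.foldr (fun a b => Nat.gcd (cbd D R X s a) b) D.N

omit hp in
theorem card_dvd_cbg (H : Hy T R X) (g : G) (L : List ℕ) :
    Nat.card (centralizer ({g} : Set G)) ∣ cbg D R X (T.ty g) L := by
  induction L with
  | nil => exact (card_subgroup_dvd_card _).trans H.mass.1.dvd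
  | cons a L ih => exact Nat.dvd_gcd (card_dvd_cbd H g a) ih

theorem cbg_dvd (D : Dat) (R : TAB.Use.Rows) (X : List (ℕ × ℕ)) (s : ℕ) (L : List ℕ) : cbg D R X s L ∣ D.N := by
  induction L with
  | nil => exact dvd_rfl
  | cons a L ih => exact (Nat.gcd_dvd_right _ _).trans ih

/-- a lower bound of the `p`-part of the centralizers -/
def lbB (D : Dat) (R : TAB.Use.Rows) (X : List (ℕ × ℕ)) (p a s d : ℕ) (L : List ℕ) : Bool :=
  decide (D.cnt s * (p ^ (d - 1) * (cbg D R X s L / Nat.gcd (cbg D R X s L) (p ^ a))) < D.N)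

/-- a maximal `p`-subgroup of a centralizer -/
theorem card_cent_eq {E : Subgroup G} (hE : IsPGroup p E) {x : G} (hc : ∀ d ∈ E, Commute d x)
    (hmax : ∀ P : Subgroup G, IsPGroup p P → E ≤ P → (∀ k ∈ P, Commute k x) → P ≤ E) :
    ∃ m, ¬ p ∣ m ∧ Nat.card (centralizer ({x} : Set G)) = Nat.card E * m := by
  have hle : E ≤ centralizer ({x} : Set G) := fun d hd => mem_centralizer_singleton_iff.2 (hc d hd)
  obtain ⟨P, hP⟩ := (hE.comap_subtype (K := centralizer ({x} : Set G))).exists_le_sylow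
  have h1 : (P : Subgroup (centralizer ({x} : Set G))) = E.subgroupOf _ := le_antisymm (map_le_iff_le_comap.1
    (hmax _ (P.isPGroup'.map _) (fun d hd => ⟨⟨d, hle hd⟩, hP hd, rfl⟩) (by
      rintro _ ⟨k, -, rfl⟩
      exact mem_centralizer_singleton_iff.1 k.2))) hP
  refine ⟨_, P.not_dvd_index, ?_⟩
  rw [← (P : Subgroup (centralizer ({x} : Set G))).card_mul_index, ← Nat.card_congr (subgroupOfEquivOfLe hle).toEquiv,
    ← h1]

theorem dvd_of_lb (H : Hy T R X) {a d : ℕ} {L : List ℕ} {x : G}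
    (h : lbB D R X p a (T.ty x) d L = true) {E : Subgroup G} (hE : IsPGroup p E) {m : ℕ} (h1 : ¬ p ∣ m)
    (h2 : Nat.card (centralizer ({x} : Set G)) = Nat.card E * m) : p ^ d ∣ Nat.card E := by
  by_contra h3
  obtain ⟨n, hn⟩ := hE.exists_card_eq
  have h4 : n ≤ d - 1 := by
    by_contra h5
    exact h3 (hn ▸ pow_dvd_pow p (by omega))
  have h5 : 0 < cbg D R X (T.ty x) L := Nat.pos_of_dvd_of_pos (cbg_dvd ..) (H.mass.1 ▸ Nat.card_pos)
  have h6 : m ∣ cbg D R X (T.ty x) L := (Dvd.intro_left _ h2.symm).trans (card_dvd_cbg H x L)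
  rw [← Nat.mul_div_cancel' (Nat.gcd_dvd_left (cbg D R X (T.ty x) L) (p ^ a))] at h6
  have h7 := Nat.le_of_dvd (Nat.div_pos (Nat.gcd_le_left _ h5) (Nat.gcd_pos_of_pos_left _ h5))
    ((Nat.Coprime.coprime_dvd_right (Nat.gcd_dvd_right _ _)
      (((Nat.Prime.coprime_iff_not_dvd hp.out).2 h1).symm.pow_right a)).dvd_of_dvd_mul_left h6)
  refine absurd (of_decide_eq_true h) (not_lt.2 ((le_cnt H.mass x).trans (Nat.mul_le_mul_left _ ?_)))
  rw [h2, hn]
  exact Nat.mul_le_mul (Nat.pow_le_pow_right hp.out.pos h4) h7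

/-- a certificate -/
structure Ct where
  a : ℕ
  U : List ℕ
  A : List ℕ
  KS : List (ℕ × ℕ × List (ℤ × ℕ) × List (ℕ × ℕ))
  LB : List (ℕ × List ℕ)

/-- **the check** -/
def chk (D : Dat) (R : TAB.Use.Rows) (X : List (ℕ × ℕ)) (p d : ℕ) (CS : List ℕ) (C : Ct) : Bool :=
  D.N % p ^ (C.a + 1) != 0 && ubB D R X p C.U C.A && C.KS.all (killB D R p C.a CS C.U) &&
    (List.range D.n).all fun s => D.ord s % p == 0 || ((1, s) :: D.pw s).any fun q => C.KS.any fun K =>
      q.2 == K.1 && D.pwf s q.1 == K.1 && (decide (K.2.1 ≤ d) || C.LB.any fun e => e.1 == s && lbB D R X p C.a s K.2.1 e.2)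

theorem noA_tab (H : Hy T R X) {d : ℕ} {CS : List ℕ}
    (hcs : ∀ E : Subgroup G, LocA p E → p ^ d ∣ Nat.card E → ∀ y ∈ E, T.ty y ∉ CS) (C : Ct)
    (h : chk D R X p d CS C = true) : NoA p d G := by
  intro E hE hd
  obtain ⟨x, hx, hc, hmax⟩ := hE.syl
  obtain ⟨m, h1, h2⟩ := card_cent_eq hE.pg hc hmax
  simp only [chk, Bool.or_eq_true, decide_eq_true_eq, Bool.and_eq_true, List.all_eq_true, bne_iff_ne, ne_eq,
    List.mem_range, beq_iff_eq, List.any_eq_true] at h
  obtain ⟨⟨⟨h3, h4⟩, h5⟩, h6⟩ := h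
  rcases h6 _ (T.lt x) with h7 | ⟨q, -, K, hK, ⟨-, h7⟩, h8⟩
  · exact hx (T.ord x ▸ Nat.dvd_of_mod_eq_zero h7)
  refine kill H h3 h4 (h5 K hK) hE.pg hE.ab (hcs E hE hd) (t := x ^ q.1)
    (fun h0 => hx (h0.trans (orderOf_pow_dvd _))) (fun z hz => (hc z hz).pow_right _) ((T.pow x _).trans h7) ?_
  rcases h8 with h8 | ⟨e, -, -, h8⟩
  · exact (pow_dvd_pow p h8).trans hd
  · exact dvd_of_lb H h8 hE.pg h1 h2

theorem noA_tab0 (H : Hy T R X) {d : ℕ} (C : Ct) (h : chk D R X p d [] C = true) : NoA p d G :=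
  noA_tab H (fun _ _ _ _ _ => List.not_mem_nil) C h

/-- there is a certificate -/
def Ok (D : Dat) (R : TAB.Use.Rows) (X : List (ℕ × ℕ)) (p d : ℕ) (CS : List ℕ) : Prop := ∃ C, chk D R X p d CS C = true

theorem Ok.noA (H : Hy T R X) {d : ℕ} {CS : List ℕ} (h : Ok D R X p d CS)
    (hcs : ∀ E : Subgroup G, LocA p E → p ^ d ∣ Nat.card E → ∀ y ∈ E, T.ty y ∉ CS) : NoA p d G :=
  h.elim fun C h => noA_tab H hcs C h

theorem Ok.noA0 (H : Hy T R X) {d : ℕ} (h : Ok D R X p d []) : NoA p d G := h.elim fun C h => noA_tab0 H C h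

theorem prime_dvd_cent (H : Hy T R X) {g : G} {i : ℕ} (hg : T.ty g = i) (a : ℕ) (L : List ℕ)
    (h : lbB D R X p a i 1 L = true) : p ∣ Nat.card (centralizer ({g} : Set G)) := by
  by_contra h1
  have h2 := dvd_of_lb H (hg ▸ h) (E := ⊥) IsPGroup.of_bot h1 (by rw [card_bot, one_mul])
  rw [pow_one, card_bot] at h2
  exact hp.out.not_dvd_one h2

omit hp in
theorem not_dvd_cent (H : Hy T R X) {g : G} {i : ℕ} (hg : T.ty g = i) (a : ℕ) {m : ℕ} (h : cbd D R X i a % m ≠ 0) :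
    ¬ m ∣ Nat.card (centralizer ({g} : Set G)) :=
  fun h1 => h (Nat.mod_eq_zero_of_dvd (h1.trans (hg ▸ card_dvd_cbd H g a)))

/-- the check for the Sylow subgroups -/
def chkS (D : Dat) (R : TAB.Use.Rows) (X : List (ℕ × ℕ)) (p : ℕ) (C : Ct) : Bool :=
  D.N % p ^ (C.a + 1) != 0 && ubB D R X p C.U C.A && C.KS.any fun K => killB D R p C.a [] C.U K &&
    D.N % p ^ K.2.1 == 0 && (List.range D.n).all fun i => D.ord i != 1 || i == K.1

theorem not_abS_tab (H : Hy T R X) (C : Ct) (h : chkS D R X p C = true) : ¬ LV.AbS p G := by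
  intro hS
  obtain ⟨P⟩ : Nonempty (Sylow p G) := inferInstance
  simp only [chkS, Bool.or_eq_true, Bool.and_eq_true, List.all_eq_true, bne_iff_ne, ne_eq,
    List.mem_range, beq_iff_eq, List.any_eq_true] at h
  obtain ⟨⟨h1, h2⟩, K, -, ⟨h3, h4⟩, h5⟩ := h
  refine kill H h1 h2 h3 P.isPGroup' (forall_of_comm (hS P)) (fun _ _ => List.not_mem_nil) (t := 1)
    (by rw [orderOf_one]; exact hp.out.not_dvd_one) (fun z _ => Commute.one_right z)
    ((h5 _ (T.lt 1)).resolve_left fun h0 => h0 (by rw [← T.ord, orderOf_one])) ?_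
  exact P.pow_dvd_card_of_pow_dvd_card (H.mass.1 ▸ Nat.dvd_of_mod_eq_zero h4)

omit hp in
/-- the types are the generators of conjugate cyclic subgroups -/
theorem rat_dvd (hm : T.Mass) (hr : TAB.ON.Rat T) (g : G) :
    D.cnt (T.ty g) * Nat.card (centralizer ({g} : Set G)) ∣ (D.ord (T.ty g)).totient * D.N := by
  have ho : ∀ h : {h : G // T.ty h = T.ty g}, orderOf h.1 = orderOf g := fun h => by rw [T.ord, T.ord, h.2]
  have : NeZero (orderOf g) := ⟨(orderOf_pos g).ne'⟩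
  let : MulAction ((ZMod (orderOf g))ˣ × G) {h : G // T.ty h = T.ty g} :=
    { smul := fun u h => ⟨u.2 * h.1 ^ (u.1 : ZMod (orderOf g)).val * u.2⁻¹, by
        refine Eq.trans ?_ ((congrArg T.ty (pow_one h.1)).trans h.2)
        rw [T.conj, T.pow, T.pow, Dat.pwf, Dat.pwf, ← T.ord, ho, ZMod.val_coe_unit_coprime, Nat.gcd_one_left]⟩
      one_smul := fun h => Subtype.ext (by
        show 1 * h.1 ^ (1 : ZMod (orderOf g)).val * 1⁻¹ = h.1
        rw [ZMod.val_one_eq_one_mod, ← ho h, pow_mod_orderOf, pow_one, one_mul, inv_one, mul_one])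
      mul_smul := fun u w h => Subtype.ext (by
        show u.2 * w.2 * h.1 ^ ((u.1 : ZMod (orderOf g)) * w.1).val * (u.2 * w.2)⁻¹ =
          u.2 * (w.2 * h.1 ^ (w.1 : ZMod (orderOf g)).val * w.2⁻¹) ^ (u.1 : ZMod (orderOf g)).val * u.2⁻¹
        have h0 : ∀ n : ℕ, h.1 ^ (n % orderOf g) = h.1 ^ n := fun n => by rw [← ho h, pow_mod_orderOf]
        rw [conj_pow, ← pow_mul, ZMod.val_mul, h0, mul_comm (ZMod.val _)]
        group) }
  have h1 : MulAction.orbit ((ZMod (orderOf g))ˣ × G) (⟨g, rfl⟩ : {h : G // T.ty h = T.ty g}) = Set.univ := by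
    refine Set.eq_univ_of_forall fun h => ?_
    obtain ⟨k, hk⟩ := hr g h.1 h.2.symm
    obtain ⟨c, hc⟩ := isConj_iff.1 hk
    refine ⟨(ZMod.unitOfCoprime k (TAB.ON.coprime_of_conj (ho h).symm hk), c), Subtype.ext ?_⟩
    show c * g ^ ((k : ℕ) : ZMod (orderOf g)).val * c⁻¹ = h.1
    rw [ZMod.val_natCast, pow_mod_orderOf, hc]
  have h2 := (MulAction.stabilizer ((ZMod (orderOf g))ˣ × G) (⟨g, rfl⟩ : {h : G // T.ty h = T.ty g})).index_mul_card
  rw [MulAction.index_stabilizer, h1, Set.ncard_univ, hm.2 _ (T.lt g), Nat.card_prod, hm.1, Nat.card_eq_fintype_card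
    (α := (ZMod (orderOf g))ˣ), ZMod.card_units_eq_totient] at h2
  rw [← T.ord g, ← h2]
  refine Nat.mul_dvd_mul_left _ ?_
  rw [← card_map_of_injective (f := MonoidHom.inr (ZMod (orderOf g))ˣ G) (fun _ _ h => (Prod.mk.inj h).2)]
  refine card_dvd_of_le ?_
  rintro _ ⟨c, hc, rfl⟩
  refine Subtype.ext ?_
  show c * g ^ (1 : ZMod (orderOf g)).val * c⁻¹ = g
  rw [ZMod.val_one_eq_one_mod, pow_mod_orderOf, pow_one, mem_centralizer_singleton_iff.1 hc, mul_inv_cancel_right]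

omit hp in
theorem cnt_pos (hm : T.Mass) (g : G) : 0 < D.cnt (T.ty g) := Nat.pos_of_ne_zero fun h => by
  have h1 := le_cnt hm g
  rw [h, zero_mul, ← hm.1] at h1
  exact absurd h1 (not_le.2 Nat.card_pos)

omit hp in
theorem Hy.of_rat (hm : T.Mass) (hr : TAB.ON.Rat T) (hT : Tab T R) (X : List (ℕ × ℕ))
    (h : ∀ e ∈ X, D.cnt e.1 * e.2 = (D.ord e.1).totient * D.N) : Hy T R X :=
  ⟨hm, hT, fun e he g hg => Nat.dvd_of_mul_dvd_mul_left (cnt_pos hm g) (by
    have h1 := rat_dvd hm hr g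
    rwa [hg, ← h e he, ← hg] at h1)⟩

omit hp in
/-- a type which is one class -/
theorem card_of_one (hm : T.Mass) {g : G} (h : ∀ x, T.ty x = T.ty g → IsConj g x) :
    D.cnt (T.ty g) * Nat.card (centralizer ({g} : Set G)) = D.N := by
  rw [← hm.1, ← card_class g, ← hm.2 _ (T.lt g)]
  congr 1
  refine Nat.card_congr (Equiv.subtypeEquivRight fun x => ⟨h x, fun hx => ?_⟩)
  obtain ⟨c, rfl⟩ := isConj_iff.1 hx
  exact T.conj g c

omit hp in
theorem Hy.of_one (hm : T.Mass) (hT : Tab T R) (X : List (ℕ × ℕ))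
    (h1 : ∀ e ∈ X, ∀ g x, T.ty g = e.1 → T.ty x = e.1 → IsConj g x) (h : ∀ e ∈ X, D.cnt e.1 * e.2 = D.N) : Hy T R X :=
  ⟨hm, hT, fun e he g hg => Dvd.intro 1 (Nat.eq_of_mul_eq_mul_left (cnt_pos hm g) (by
    rw [mul_one, card_of_one hm fun x hx => h1 e he g x hg (hx.trans hg), hg, h e he]))⟩

end Cfsg.Agent.KM.Sp
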