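import Cfsg.Agent.KM.Sp.Eng
import Cfsg.Agent.PQ.Spor.Tabs

/-!
# KM, sporadic rows: certificates (helper67)
-/

set_option autoImplicit false
set_option maxRecDepth 100000

namespace Cfsg.Agent.KM.Sp

open Cfsg Cfsg.Agent.TAB Cfsg.Agent.TAB.Eng Cfsg.Agent.TAB.Use
open Cfsg.Agent.TAB.Sm2 (mkRows)

theorem okFi22_2 : Ok F22.dat (mkRows F22.rowA F22.rowB) [] 2 5 [] :=
    ⟨⟨17, [17, 17, 17, 16, 3, 7, 6, 8, 17, 17, 15, 15, 17, 3, 12, 13, 12, 12, 9, 4, 11, 13, 10, 7, 7, 1, 17, 17, 14,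
    14, 1, 1, 2, 7, 2, 1, 13, 12, 14, 12, 12, 12, 14, 13, 12, 13, 0, 1, 1, 17, 1, 7, 2, 11, 0, 1, 12, 12, 1], [0, 0,
    0, 50, 43, 43, 43, 50, 0, 0, 10, 10, 0, 43, 30, 25, 25, 10, 47, 50, 47, 42, 47, 50, 50, 43, 0, 0, 10, 10, 43, 43,
    43, 47, 50, 50, 40, 25, 13, 10, 10, 10, 13, 41, 10, 41, 43, 50, 43, 0, 50, 47, 50, 25, 43, 50, 10, 10, 50], [(0,
    14, [(-2053, 1), (-2563, 2), (3581, 3), (1531, 5), (1539, 7), (1, 12)], [(0, 3253), (1, 3045), (2, 3061), (8,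
    7169), (9, 3045), (12, 15365), (27, 3073)]), (4, 5, [], []), (5, 7, [(-29, 1), (-1, 2), (59, 4), (1, 41)], [(5,
    113), (15, 37), (20, 97)]), (6, 5, [(1, 5)], [(6, 31), (18, 31), (21, 3)]), (7, 8, [(1, 8)], [(7, 9), (22, 1),
    (40, 1)]), (13, 5, [], []), (25, 5, [], []), (31, 5, [], []), (32, 5, [], []), (35, 5, [], []), (46, 5, [], [])],
    [(0, []), (5, [7, 3]), (7, [26, 1])]⟩,
    by decide +kernel⟩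

theorem okFi22_3a : Ok F22.dat (mkRows F22.rowA F22.rowB) [] 3 3 [4] :=
    ⟨⟨9, [9, 3, 4, 6, 9, 9, 9, 7, 2, 1, 1, 2, 3, 1, 7, 6, 6, 3, 6, 7, 6, 7, 3, 7, 5, 1, 0, 1, 1, 1, 9, 9, 9, 0, 1, 0,
    6, 5, 6, 1, 2, 2, 5, 4, 2, 5, 1, 1, 1, 0, 8, 8, 8, 0, 1, 0, 1, 1, 1], [0, 26, 26, 26, 0, 0, 0, 26, 44, 44, 26, 26,
    26, 26, 12, 19, 19, 26, 19, 19, 19, 12, 26, 19, 26, 26, 44, 26, 26, 26, 0, 0, 0, 44, 26, 44, 34, 19, 19, 26, 26,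
    26, 39, 39, 26, 39, 26, 31, 26, 44, 1, 1, 1, 44, 26, 44, 26, 26, 26], [(0, 6, [(4, 3), (-183, 4), (1, 14)], [(0,
    372), (5, 192)]), (1, 3, [(-7, 1), (-2, 3), (1, 5)], [(1, 9)]), (2, 4, [(1, 10)], [(2, 4), (20, 1)]), (9, 3, [],
    []), (10, 3, [], []), (11, 3, [], []), (12, 3, [(1, 1)], [(12, 24)]), (13, 3, [], []), (25, 3, [], []), (35, 3,
    [], []), (46, 3, [], [])], [(0, []), (2, [4, 3]), (3, [4])]⟩,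
    by decide +kernel⟩

theorem okFi22_3b : Ok F22.dat (mkRows F22.rowA F22.rowB) [] 3 3 [5] :=
    ⟨⟨9, [9, 3, 4, 6, 9, 9, 9, 7, 2, 1, 1, 2, 3, 1, 7, 6, 6, 3, 6, 7, 6, 7, 3, 7, 5, 1, 0, 1, 1, 1, 9, 9, 9, 0, 1, 0,
    6, 5, 6, 1, 2, 2, 5, 4, 2, 5, 1, 1, 1, 0, 8, 8, 8, 0, 1, 0, 1, 1, 1], [0, 26, 26, 26, 0, 0, 0, 26, 44, 44, 26, 26,
    26, 26, 12, 19, 19, 26, 19, 19, 19, 12, 26, 19, 26, 26, 44, 26, 26, 26, 0, 0, 0, 44, 26, 44, 34, 19, 19, 26, 26,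
    26, 39, 39, 26, 39, 26, 31, 26, 44, 1, 1, 1, 44, 26, 44, 26, 26, 26], [(0, 5, [(-1, 2), (1, 7)], [(0, 9)]), (1, 3,
    [(1, 3)], [(1, 2)]), (2, 3, [(1, 24)], [(2, 25)]), (3, 3, [(1, 3)], [(3, 21)]), (13, 3, [], []), (25, 3, [], []),
    (35, 3, [], []), (46, 3, [], [])], [(0, [])]⟩,
    by decide +kernel⟩

theorem okFi23_2 : Ok F23.D F23.R [(5, 75582720)] 2 5 [] :=
    ⟨⟨18, [18, 18, 18, 18, 4, 7, 10, 9, 18, 14, 18, 12, 4, 4, 9, 10, 10, 6, 12, 11, 11, 9, 8, 13, 13, 9, 10, 3, 18,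
    15, 15, 3, 3, 3, 2, 4, 8, 4, 4, 3, 13, 9, 14, 5, 13, 13, 13, 12, 14, 15, 10, 14, 14, 7, 6, 1, 3, 2, 3, 2, 18, 2,
    2, 3, 8, 2, 4, 3, 7, 8, 8, 4, 1, 3, 3, 1, 13, 13, 16, 1, 2, 3, 3, 2, 7, 1, 3, 11, 1, 1, 3, 7], [0, 0, 0, 0, 49,
    49, 49, 53, 0, 21, 0, 55, 49, 49, 78, 78, 21, 53, 21, 78, 21, 53, 49, 78, 78, 53, 49, 49, 0, 33, 33, 53, 49, 49,
    49, 49, 21, 53, 49, 53, 48, 21, 48, 55, 15, 15, 15, 15, 48, 43, 21, 15, 48, 55, 55, 49, 53, 49, 49, 49, 0, 53, 49,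
    53, 21, 49, 53, 49, 78, 78, 21, 55, 49, 53, 55, 49, 33, 33, 2, 49, 53, 55, 53, 49, 78, 49, 55, 15, 49, 49, 55,
    49], [(0, 15, [(7267, 1), (15055, 2), (-12085, 3), (1, 19)], [(0, 20485), (1, 7813), (8, 5733), (10, 26621), (28,
    12085)]), (4, 5, [], []), (5, 7, [(1, 53)], []), (6, 9, [(2, 1), (-126, 3), (1, 15)], [(6, 10), (18, 254), (23,
    10), (49, 510)]), (7, 8, [(-1, 2), (1, 19)], [(7, 11), (20, 251), (25, 3), (45, 255), (46, 255)]), (12, 5, [],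
    []), (27, 5, [], []), (32, 5, [], []), (33, 5, [], []), (34, 5, [], []), (35, 5, [], []), (39, 5, [], []), (55, 5,
    [], []), (61, 5, [], []), (75, 5, [], [])], [(0, []), (5, [54]), (6, [11, 2]), (7, [60, 10])]⟩,
    by decide +kernel⟩

theorem okFi23_3 : Ok F23.D F23.R [(10, 663552)] 3 3 [] :=
    ⟨⟨13, [13, 5, 6, 9, 13, 12, 13, 10, 2, 2, 4, 4, 2, 11, 10, 10, 8, 8, 8, 8, 4, 8, 10, 9, 10, 5, 7, 1, 1, 1, 1, 13,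
    12, 12, 13, 13, 1, 1, 1, 0, 8, 6, 7, 7, 7, 3, 2, 10, 6, 7, 2, 7, 7, 3, 7, 1, 0, 1, 2, 6, 0, 0, 12, 10, 11, 11, 10,
    11, 11, 11, 0, 1, 1, 0, 0, 1, 1, 1, 5, 1, 13, 1, 1, 1, 6, 0, 10, 10, 1, 1, 1, 10], [0, 60, 60, 60, 0, 19, 0, 60,
    81, 60, 21, 60, 60, 5, 32, 32, 19, 19, 19, 19, 60, 19, 19, 19, 19, 60, 60, 60, 81, 60, 60, 0, 5, 5, 0, 0, 81, 60,
    60, 81, 62, 19, 19, 19, 19, 60, 60, 25, 54, 19, 60, 19, 54, 60, 19, 60, 81, 60, 60, 19, 81, 81, 2, 5, 5, 5, 5, 5,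
    43, 25, 81, 60, 60, 81, 81, 71, 60, 60, 54, 60, 0, 60, 60, 60, 19, 81, 5, 25, 60, 60, 60, 19], [(0, 11, [(-728,
    1), (-79459, 2), (-18957, 3), (728, 4), (1, 8)], [(0, 121740), (4, 95505), (6, 102057), (35, 158919)]), (1, 5,
    [(1, 60)], []), (2, 6, [(1, 30)], [(2, 712), (21, 1)]), (3, 8, [(1, 15)], [(3, 16), (13, 6559), (22, 6559)]), (8,
    3, [], []), (9, 3, [], []), (10, 4, [(1, 4)], [(10, 3)]), (11, 4, [(1, 2)], [(11, 80), (54, 80)]), (12, 3, [],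
    []), (27, 3, [], []), (29, 3, [], []), (30, 3, [], []), (39, 3, [], []), (55, 3, [], []), (61, 3, [], []), (75, 3,
    [], [])], [(0, []), (1, [10, 7]), (2, [10]), (3, [1]), (10, [21]), (11, [55, 10])]⟩,
    by decide +kernel⟩

theorem okFi24_2 : Ok F24.DT F24.tabT [(4, 14285134080), (43, 3888)] 2 5 [] :=
    ⟨⟨21, [21, 21, 19, 5, 8, 12, 10, 8, 21, 12, 21, 6, 5, 10, 11, 12, 14, 9, 8, 13, 14, 10, 10, 3, 4, 21, 21, 21, 3,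
    3, 5, 5, 3, 2, 10, 5, 3, 6, 15, 16, 16, 5, 16, 4, 16, 16, 7, 16, 14, 2, 3, 7, 3, 3, 2, 21, 2, 7, 8, 3, 10, 3, 4,
    8, 4, 14, 2, 2, 4, 3, 2, 18, 15, 15, 18, 19, 2, 2, 2, 3, 7, 7, 3, 2, 2, 13, 3, 14, 2, 2, 2, 7, 2, 3], [0, 0, 30,
    30, 30, 45, 30, 75, 0, 45, 0, 30, 30, 27, 27, 53, 27, 30, 30, 27, 27, 45, 69, 30, 30, 0, 0, 0, 30, 30, 30, 30, 30,
    75, 27, 30, 45, 45, 44, 42, 13, 45, 44, 7, 13, 13, 45, 15, 32, 30, 30, 69, 30, 30, 75, 0, 75, 27, 27, 30, 53, 30,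
    30, 53, 45, 13, 30, 75, 45, 45, 30, 10, 14, 14, 12, 21, 30, 75, 62, 45, 69, 27, 30, 75, 30, 15, 45, 13, 30, 30,
    30, 27, 30, 45], [(0, 18, [(-100073, 1), (29266, 2), (54996, 3), (1, 5)], [(0, 18460), (1, 94236), (8, 122268),
    (10, 52092), (25, 129340)]), (3, 5, [(1, 34)], []), (4, 8, [(-1, 1), (-1, 2), (1, 3)], [(15, 248)]), (5, 9, [(1,
    1)], [(5, 503), (16, 7), (40, 511), (45, 511)]), (6, 9, [(184, 1), (-82, 2), (1, 3)], [(6, 15), (19, 415), (42,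
    267)]), (7, 5, [(1, 1)], [(7, 29), (22, 1), (48, 31)]), (11, 5, [(1, 5)], [(11, 3), (34, 31)]), (23, 5, [], []),
    (24, 5, [], []), (28, 5, [], []), (30, 5, [(1, 1)], [(58, 30)]), (31, 5, [(1, 1)], [(31, 29), (60, 1)]), (32, 5,
    [], []), (33, 5, [], []), (36, 5, [], []), (49, 5, [], []), (56, 5, [], []), (70, 5, [], []), (80, 5, [], [(80,
    1)])], [(0, []), (4, [50]), (5, [2, 3]), (6, [8, 7])]⟩,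
    by decide +kernel⟩

theorem okFi24_3 : Ok F24.DT F24.tabT [(10, 39813120)] 3 3 [] :=
    ⟨⟨16, [16, 7, 9, 16, 16, 14, 16, 8, 2, 4, 5, 4, 13, 12, 13, 10, 6, 11, 11, 11, 13, 8, 4, 2, 2, 2, 2, 1, 16, 16,
    16, 16, 16, 16, 1, 1, 3, 8, 10, 8, 3, 8, 8, 11, 9, 5, 4, 9, 3, 2, 1, 1, 8, 4, 8, 0, 0, 15, 14, 15, 14, 13, 13, 15,
    2, 0, 2, 2, 7, 2, 0, 7, 2, 2, 7, 2, 2, 16, 16, 0, 2, 7, 2, 10, 0, 13, 12, 13, 2, 2, 2, 7, 12, 2], [0, 50, 71, 0,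
    0, 50, 0, 50, 71, 71, 27, 71, 20, 43, 43, 36, 50, 36, 36, 36, 36, 50, 50, 50, 71, 71, 50, 71, 0, 0, 0, 0, 0, 0,
    71, 71, 50, 36, 43, 36, 50, 36, 36, 43, 36, 50, 50, 36, 50, 50, 71, 71, 36, 50, 36, 71, 71, 2, 8, 2, 8, 20, 20, 2,
    50, 71, 50, 50, 36, 50, 71, 36, 50, 50, 36, 50, 50, 0, 0, 71, 61, 36, 50, 43, 71, 8, 20, 8, 50, 50, 50, 36, 20,
    50], [(0, 15, [(1, 50)], []), (1, 7, [(1, 50)], []), (2, 9, [(1, 14)], [(2, 19667), (12, 2), (17, 2)]), (8, 3, [],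
    []), (9, 4, [(1, 20)], [(9, 77), (37, 80)]), (10, 5, [(1, 28)], [(10, 8), (47, 2)]), (11, 4, [(1, 7)], [(11, 79),
    (54, 1)]), (23, 3, [], []), (24, 3, [], []), (26, 3, [], []), (34, 3, [], []), (35, 3, [], []), (36, 3, [(1, 1)],
    []), (49, 3, [], []), (56, 3, [], []), (70, 3, [], []), (80, 3, [], [])], [(0, []), (1, [8, 7]), (2, [30, 2]), (9,
    [45, 9, 4]), (10, [27]), (11, [30, 2, 1])]⟩,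
    by decide +kernel⟩

theorem okFi24_7 : Ok F24.DT F24.tabT [] 7 3 [] :=
    ⟨⟨3, [3, 1, 1, 0, 1, 1, 0, 1, 0, 1, 0, 1, 0, 0, 0, 0, 0, 0, 0, 0, 1, 1, 0, 2, 3, 0, 0, 0, 0, 0, 0, 0, 0, 0, 0, 0,
    0, 0, 0, 0, 0, 0, 0, 0, 0, 0, 0, 0, 0, 0, 1, 2, 0, 0, 0, 0, 0, 0, 0, 0, 0, 0, 0, 0, 0, 0, 1, 1, 2, 0, 0, 0, 0, 0,
    0, 0, 0, 0, 0, 1, 0, 0, 0, 0, 1, 0, 0, 0, 0, 0, 1, 2, 0, 0], [0, 7, 2, 7, 7, 2, 7, 2, 7, 4, 7, 2, 7, 7, 7, 7, 7,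
    7, 7, 7, 7, 2, 7, 2, 0, 7, 7, 7, 7, 7, 7, 7, 7, 7, 7, 14, 14, 7, 17, 7, 7, 7, 7, 14, 7, 7, 7, 7, 7, 17, 2, 20, 7,
    7, 7, 7, 7, 7, 7, 7, 7, 7, 7, 7, 7, 7, 2, 2, 20, 14, 14, 7, 7, 7, 17, 7, 21, 7, 7, 4, 32, 18, 7, 14, 2, 7, 7, 14,
    17, 17, 2, 20, 7, 26], [(0, 3, [(1, 1)], [(0, 341)]), (1, 3, [], []), (2, 3, [], []), (3, 3, [], []), (4, 3, [],
    []), (5, 3, [], []), (6, 3, [], []), (7, 3, [], []), (11, 3, [], []), (36, 3, [], []), (49, 3, [], []), (56, 3,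
    [], []), (70, 3, [], []), (80, 3, [], [])], []⟩,
    by decide +kernel⟩

theorem okHN_2 : Ok HN.dat HN.rows [] 2 5 [] :=
    ⟨⟨14, [14, 11, 14, 6, 3, 14, 8, 14, 4, 6, 4, 2, 6, 8, 7, 2, 6, 14, 1, 5, 4, 8, 7, 3, 6, 2, 5, 10, 13, 3, 2, 1, 2,
    10, 4, 11, 0, 2, 0, 4, 6, 0, 4], [0, 11, 0, 35, 35, 0, 11, 0, 11, 33, 35, 35, 11, 12, 31, 35, 11, 0, 35, 33, 11,
    12, 31, 33, 12, 33, 11, 3, 14, 33, 35, 35, 33, 3, 11, 36, 35, 33, 35, 11, 12, 35, 11], [(0, 11, [(-684, 2), (683,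
    5), (1, 6)], [(0, 1463), (2, 2039), (5, 1367)]), (3, 5, [(1, 12)], [(3, 4)]), (4, 5, [], []), (8, 5, [], []), (9,
    5, [(1, 13)], [(9, 5), (21, 1)]), (10, 5, [], []), (11, 5, [], []), (15, 5, [], []), (25, 5, [], []), (32, 5, [],
    [])], [(0, [])]⟩,
    by decide +kernel⟩

theorem okHN_3 : Ok HN.dat HN.rows [] 3 3 [] :=
    ⟨⟨6, [6, 2, 2, 5, 6, 1, 2, 1, 2, 0, 1, 0, 2, 2, 4, 1, 0, 0, 6, 0, 1, 0, 1, 0, 0, 0, 2, 1, 4, 0, 2, 3, 0, 0, 0, 0,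
    1, 0, 0, 1, 3, 0, 0], [0, 5, 16, 5, 0, 16, 5, 36, 5, 33, 33, 36, 5, 16, 6, 16, 41, 41, 0, 33, 16, 36, 36, 33, 36,
    33, 5, 16, 6, 33, 5, 31, 33, 36, 41, 36, 16, 33, 33, 16, 31, 33, 41], [(0, 6, [(1, 1)], [(0, 725), (4, 2)]), (1,
    3, [], []), (2, 3, [], []), (8, 3, [], []), (9, 3, [], []), (10, 3, [], []), (11, 3, [], []), (15, 3, [], []),
    (25, 3, [], []), (32, 3, [], [])], [(0, [])]⟩,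
    by decide +kernel⟩

theorem okHN_5 : Ok HN.dat HN.rows [] 5 3 [] :=
    ⟨⟨6, [6, 3, 2, 1, 1, 1, 1, 1, 4, 6, 6, 6, 1, 0, 1, 1, 1, 0, 0, 4, 2, 4, 5, 5, 5, 0, 0, 0, 0, 0, 1, 5, 1, 3, 1, 5,
    0, 0, 6, 1, 5, 1, 1], [0, 17, 29, 17, 29, 29, 17, 37, 17, 0, 0, 0, 17, 29, 37, 17, 17, 37, 29, 14, 17, 14, 2, 2,
    2, 29, 37, 29, 37, 29, 17, 2, 32, 14, 17, 5, 29, 29, 0, 17, 2, 17, 17], [(0, 6, [(1, 17)], []), (1, 3, [(1, 3)],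
    [(1, 1)]), (2, 3, [], []), (3, 3, [], []), (4, 3, [], []), (15, 3, [], []), (25, 3, [], []), (32, 3, [], [])],
    [(0, [])]⟩,
    by decide +kernel⟩

theorem okTh_2 : Ok Th.D (mkRows Th.rowA Th.rowB) [] 2 5 [] :=
    ⟨⟨15, [15, 15, 7, 3, 5, 15, 15, 3, 8, 9, 7, 7, 15, 15, 5, 0, 2, 8, 11, 9, 12, 0, 7, 1, 7, 6, 6, 11, 6, 12, 14, 0,
    0, 9, 6, 0, 9, 9, 0], [0, 0, 19, 19, 19, 0, 0, 19, 21, 21, 21, 25, 0, 0, 19, 19, 19, 21, 8, 8, 16, 19, 25, 19, 21,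
    21, 25, 16, 25, 12, 6, 19, 19, 8, 21, 19, 8, 8, 19], [(0, 11, [(-772, 1), (1, 2)], [(0, 59), (1, 2043), (5, 3),
    (6, 2047)]), (2, 5, [(1, 1)], [(2, 30), (9, 2)]), (3, 5, [], []), (4, 5, [(1, 1)], [(4, 4)]), (7, 5, [], []), (11,
    5, [(1, 1)], [(11, 31), (22, 1)]), (21, 5, [], []), (26, 5, [], [(26, 1)]), (35, 5, [], [])], [(0, [])]⟩,
    by decide +kernel⟩

theorem okTh_3 : Ok Th.D (mkRows Th.rowA Th.rowB) [(5, 774144)] 3 2 [] :=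
    ⟨⟨10, [10, 4, 7, 10, 10, 3, 1, 1, 8, 3, 7, 1, 1, 1, 10, 10, 10, 1, 2, 6, 7, 1, 0, 7, 9, 9, 0, 0, 1, 1, 7, 10, 10,
    0, 7, 0, 8, 8, 1], [0, 12, 12, 0, 0, 12, 23, 23, 16, 12, 27, 12, 12, 23, 0, 0, 0, 23, 12, 27, 16, 12, 23, 16, 9,
    9, 29, 23, 12, 12, 22, 0, 0, 23, 16, 23, 10, 10, 12], [(0, 8, [(-1360, 15), (1, 31)], [(0, 54)]), (1, 4, [(1,
    12)], []), (5, 3, [(1, 1)], [(5, 26), (19, 26)]), (6, 2, [], []), (7, 2, [], []), (11, 2, [], []), (12, 2, [],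
    []), (21, 2, [], []), (26, 2, [], []), (35, 2, [], [])], [(0, []), (1, [4, 2]), (5, [19])]⟩,
    by decide +kernel⟩

end Cfsg.Agent.KM.Sp
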