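import Cfsg.Agent.KM.Sp.Eng
import Cfsg.Agent.PQ.Spor.Tabs

/-!
# KM, sporadic rows: certificates (helper67)
-/

set_option autoImplicit false
set_option maxRecDepth 100000

namespace Cfsg.Agent.KM.Sp

open Cfsg Cfsg.Agent.TAB Cfsg.Agent.TAB.Eng Cfsg.Agent.TAB.Use
open Cfsg.Agent.TAB.Sm2 (mkRows)

theorem okM_2 : Ok M.dat M.tabM [] 2 5 [] :=
    ⟨⟨46, [46, 42, 46, 22, 14, 17, 46, 28, 46, 46, 14, 9, 20, 26, 28, 14, 24, 23, 11, 9, 46, 46, 16, 46, 46, 46, 7, 5,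
    11, 24, 9, 21, 19, 7, 33, 32, 13, 31, 33, 38, 10, 32, 31, 41, 4, 5, 10, 20, 16, 7, 5, 7, 5, 46, 46, 46, 4, 5, 6,
    17, 16, 17, 3, 30, 8, 28, 40, 36, 28, 4, 4, 7, 16, 5, 17, 15, 41, 37, 37, 39, 41, 42, 7, 38, 38, 44, 2, 4, 16, 2,
    7, 28, 28, 38, 2, 17, 6, 17, 16, 20, 19, 19, 2, 45, 45, 3, 3, 4, 4, 14, 26, 26, 5, 26, 3, 2, 2, 14, 6, 40, 36, 14,
    4, 16, 15, 14, 26, 2, 15, 25, 2, 43, 2, 4, 4, 41, 2, 4, 34, 42, 4, 41, 5, 26, 26, 26, 36, 39, 2, 3, 14, 4, 14, 4,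
    14, 3, 2, 14, 4, 37, 26, 2, 39, 25, 2, 2, 2, 4, 3, 3, 3], [0, 99, 0, 99, 99, 151, 0, 99, 0, 0, 99, 151, 99, 120,
    120, 99, 130, 120, 99, 99, 0, 0, 107, 0, 0, 0, 99, 151, 99, 130, 151, 130, 130, 151, 101, 110, 99, 37, 101, 78,
    99, 101, 101, 26, 99, 151, 99, 120, 120, 99, 151, 99, 151, 0, 0, 0, 99, 151, 99, 120, 120, 130, 151, 110, 99, 101,
    26, 78, 101, 99, 99, 107, 120, 151, 120, 120, 53, 14, 14, 78, 26, 31, 107, 78, 104, 22, 151, 99, 120, 151, 99,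
    101, 101, 104, 151, 130, 99, 130, 130, 117, 117, 117, 151, 2, 2, 151, 151, 99, 99, 130, 110, 101, 99, 101, 151,
    151, 151, 120, 107, 26, 78, 130, 99, 120, 120, 120, 110, 151, 120, 110, 151, 16, 151, 107, 99, 41, 151, 107, 14,
    31, 107, 46, 99, 110, 101, 101, 78, 26, 151, 151, 120, 99, 120, 99, 130, 99, 151, 120, 99, 104, 101, 151, 26, 110,
    151, 151, 151, 107, 99, 151, 99], [(0, 36, [(28539388747, 1), (16074186281, 2), (6928183526, 3), (4450371459, 4),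
    (-21632391646, 6), (1, 8), (-24244421452, 9)], [(0, 31322156628), (2, 59529899604), (8, 63935061588), (6,
    54106171988), (9, 34352103796), (20, 296932148), (24, 24567973972), (54, 7311963108), (55, 29536180556)]), (3, 18,
    [(1041, 1), (-1043, 2), (1, 6)], [(3, 63673), (14, 259001), (34, 5209), (38, 259017), (77, 1045)]), (4, 13,
    [(3205, 1), (-4051, 2), (3987, 3), (-1012, 4), (1, 7), (-4084, 9)], [(4, 3055), (16, 1263), (13, 367), (42, 1391),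
    (39, 4627), (41, 775)]), (5, 11, [(-515, 2), (1, 6)], [(5, 60), (17, 2044), (37, 4)]), (10, 11, [(-721, 2), (1,
    21)], [(10, 1427), (29, 595), (63, 1443)]), (11, 8, [(-13, 1), (-58, 2), (1, 23)], [(11, 198), (32, 174), (31,
    146), (68, 58)]), (18, 9, [(-1, 2), (1, 3)], [(18, 17), (47, 1), (92, 509)]), (19, 5, [(1, 1)], [(19, 9), (48, 1),
    (93, 31)]), (26, 5, [(1, 6)], [(26, 3), (59, 31), (58, 31)]), (27, 5, [(-15, 1), (1, 137)], [(27, 13), (60, 17)]),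
    (33, 5, [(1, 3)], [(33, 5), (74, 1), (126, 31)]), (44, 5, [], []), (45, 5, [(1, 1)], [(45, 2)]), (49, 5, [(1, 2)],
    [(49, 30), (96, 30), (97, 2)]), (50, 5, [(1, 1)], [(50, 2)]), (51, 5, [(1, 99)], []), (52, 5, [(1, 2)], [(52,
    2)]), (56, 5, [], []), (62, 5, [], []), (69, 5, [], []), (71, 5, [(1, 2)], [(71, 31), (124, 1)]), (75, 5, [(1,
    2)], [(75, 31), (128, 1)]), (86, 5, [], []), (94, 5, [], []), (102, 5, [], []), (108, 5, [], []), (121, 5, [],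
    [(121, 1)]), (130, 5, [], []), (141, 5, [], [(141, 1)]), (155, 5, [], [])], [(0, []), (3, [54, 19, 17]), (4, [32,
    53, 4]), (5, [98, 58, 9]), (10, [81, 19, 18, 8]), (11, [98, 53, 2]), (18, [54, 19, 9, 23, 16])]⟩,
    by decide +kernel⟩

theorem okM_3 : Ok M.dat M.tabM [] 3 3 [4, 5] :=
    ⟨⟨20, [20, 13, 9, 17, 20, 11, 7, 6, 4, 3, 6, 3, 10, 14, 8, 15, 13, 5, 3, 3, 4, 3, 3, 2, 1, 3, 20, 20, 2, 2, 1, 3,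
    2, 4, 6, 11, 5, 4, 3, 9, 10, 9, 10, 2, 3, 1, 2, 1, 2, 5, 10, 9, 2, 1, 0, 1, 1, 19, 16, 16, 17, 18, 1, 1, 2, 1, 1,
    1, 1, 3, 3, 3, 8, 2, 2, 1, 3, 3, 9, 2, 2, 9, 9, 8, 8, 2, 1, 1, 2, 20, 1, 1, 1, 2, 2, 9, 2, 2, 8, 2, 8, 8, 1, 0, 0,
    9, 3, 1, 1, 1, 15, 16, 14, 16, 0, 3, 3, 8, 1, 0, 0, 3, 2, 8, 1, 2, 1, 14, 0, 0, 0, 1, 0, 1, 0, 0, 20, 1, 1, 1, 1,
    1, 3, 1, 8, 8, 8, 1, 1, 2, 8, 1, 1, 1, 1, 1, 2, 8, 1, 8, 1, 2, 3, 0, 1, 0, 0, 0, 1, 1, 1], [0, 81, 54, 54, 0, 98,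
    54, 81, 81, 98, 81, 98, 81, 56, 54, 56, 56, 98, 54, 123, 131, 54, 146, 81, 146, 98, 0, 0, 81, 81, 146, 98, 81,
    138, 54, 56, 81, 98, 81, 90, 56, 56, 56, 98, 54, 146, 81, 98, 81, 81, 56, 90, 98, 81, 146, 98, 81, 10, 8, 8, 121,
    52, 135, 81, 146, 146, 146, 98, 146, 54, 81, 54, 56, 138, 139, 81, 54, 81, 56, 81, 98, 90, 90, 56, 56, 98, 81,
    146, 98, 0, 81, 98, 81, 81, 138, 90, 81, 81, 56, 98, 56, 56, 98, 146, 146, 56, 138, 98, 81, 81, 8, 121, 8, 149,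
    146, 54, 54, 152, 81, 146, 146, 54, 81, 56, 98, 81, 139, 8, 146, 146, 146, 81, 146, 81, 146, 146, 0, 139, 81, 81,
    135, 98, 54, 81, 56, 56, 56, 98, 98, 138, 56, 123, 81, 81, 81, 81, 138, 152, 81, 56, 98, 138, 54, 146, 98, 146,
    146, 146, 81, 139, 81], [(0, 7, [(1, 1)], [(0, 782)]), (1, 5, [(1, 1)], [(1, 78)]), (2, 3, [(1, 1)], [(2, 14)]),
    (7, 3, [(1, 1)], [(7, 6)]), (10, 3, [(1, 1)], [(10, 7)]), (11, 3, [], [(11, 1)]), (18, 3, [(1, 1)], [(18, 5)]),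
    (19, 3, [(1, 1)], [(19, 25)]), (33, 3, [(1, 1)], [(33, 1)]), (44, 3, [(1, 1)], [(44, 2)]), (45, 3, [], []), (56,
    3, [], []), (62, 3, [], []), (75, 3, [], []), (94, 3, [], []), (102, 3, [], []), (121, 3, [], [(121, 1)]), (130,
    3, [], []), (141, 3, [], []), (155, 3, [], [])], [(0, []), (1, [19, 9])]⟩,
    by decide +kernel⟩

theorem okM_5 : Ok M.dat M.tabM [] 5 3 [11] :=
    ⟨⟨9, [9, 6, 4, 2, 2, 3, 3, 2, 1, 2, 7, 9, 2, 2, 1, 1, 1, 1, 2, 1, 0, 1, 2, 1, 0, 0, 1, 0, 4, 3, 7, 6, 6, 1, 1, 1,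
    1, 0, 0, 1, 0, 1, 0, 1, 0, 0, 1, 0, 1, 2, 2, 5, 5, 0, 0, 0, 0, 0, 0, 0, 0, 0, 1, 2, 2, 5, 2, 5, 4, 1, 0, 0, 0, 1,
    0, 0, 0, 0, 0, 0, 0, 0, 0, 0, 0, 0, 9, 0, 0, 0, 0, 0, 0, 0, 0, 5, 2, 1, 2, 4, 4, 4, 0, 0, 0, 0, 0, 0, 2, 4, 0, 0,
    0, 0, 0, 0, 0, 0, 2, 1, 4, 1, 0, 0, 0, 0, 0, 1, 0, 0, 0, 0, 9, 0, 0, 0, 0, 1, 0, 0, 0, 0, 1, 1, 4, 4, 1, 4, 0, 0,
    0, 0, 0, 1, 4, 0, 0, 0, 0, 0, 0, 0, 0, 0, 0, 0, 1, 0, 1, 1, 0], [0, 19, 32, 19, 32, 58, 32, 19, 58, 33, 19, 0, 19,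
    33, 32, 58, 58, 58, 19, 58, 58, 33, 19, 58, 58, 58, 32, 58, 19, 32, 70, 70, 70, 32, 32, 58, 33, 58, 88, 33, 58,
    58, 88, 58, 58, 102, 32, 88, 58, 19, 32, 70, 70, 58, 58, 88, 88, 58, 88, 58, 58, 88, 41, 32, 19, 70, 33, 70, 70,
    32, 58, 58, 58, 32, 58, 120, 58, 58, 58, 58, 58, 58, 58, 58, 58, 88, 0, 58, 102, 58, 58, 58, 58, 58, 88, 70, 19,
    32, 33, 70, 70, 70, 88, 58, 58, 58, 58, 88, 19, 98, 58, 58, 58, 58, 58, 58, 58, 120, 19, 33, 70, 79, 88, 91, 88,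
    58, 58, 32, 120, 133, 127, 58, 0, 120, 58, 102, 58, 32, 58, 147, 58, 102, 33, 32, 70, 70, 33, 70, 88, 58, 58, 88,
    120, 32, 98, 147, 133, 102, 58, 58, 88, 88, 58, 133, 88, 127, 41, 58, 32, 32, 88], [(0, 4, [(1, 1)], [(0, 133)]),
    (1, 3, [(1, 1)], [(1, 21)]), (2, 3, [(1, 1)], [(2, 5)]), (3, 3, [], []), (4, 3, [], []), (5, 3, [], [(5, 1)]),
    (18, 3, [], []), (19, 3, [], []), (33, 3, [], []), (44, 3, [], []), (45, 3, [], []), (56, 3, [], []), (62, 3, [],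
    []), (75, 3, [], []), (94, 3, [], []), (102, 3, [], []), (121, 3, [], []), (130, 3, [], []), (141, 3, [], []),
    (155, 3, [], [])], [(0, [])]⟩,
    by decide +kernel⟩

theorem okM_7 : Ok M.dat M.tabM [] 7 3 [] :=
    ⟨⟨6, [6, 2, 2, 3, 1, 2, 1, 2, 1, 1, 1, 1, 1, 1, 1, 0, 0, 1, 4, 6, 1, 0, 0, 0, 0, 1, 0, 0, 1, 0, 0, 1, 0, 0, 0, 0,
    1, 1, 0, 1, 0, 0, 0, 0, 0, 0, 2, 2, 4, 1, 0, 0, 0, 0, 0, 0, 1, 0, 0, 0, 0, 0, 0, 0, 0, 0, 0, 0, 0, 2, 4, 2, 3, 0,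
    0, 0, 0, 0, 0, 0, 0, 0, 0, 0, 0, 0, 0, 0, 0, 0, 2, 1, 1, 3, 0, 0, 0, 0, 0, 0, 0, 0, 0, 0, 0, 0, 0, 0, 1, 3, 0, 0,
    0, 0, 0, 0, 0, 0, 0, 0, 0, 1, 1, 3, 1, 3, 0, 0, 0, 0, 0, 0, 0, 0, 0, 0, 0, 0, 1, 3, 0, 0, 0, 0, 0, 0, 0, 0, 0, 0,
    0, 0, 0, 1, 3, 0, 0, 0, 1, 3, 1, 0, 0, 0, 0, 0, 0, 0, 1, 0, 1], [0, 9, 17, 17, 53, 9, 17, 9, 17, 53, 18, 53, 17,
    53, 60, 53, 53, 18, 9, 0, 17, 53, 60, 60, 53, 60, 53, 60, 17, 53, 60, 53, 53, 53, 60, 53, 17, 18, 53, 53, 53, 60,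
    53, 53, 70, 89, 9, 17, 57, 17, 53, 53, 70, 60, 60, 60, 18, 53, 53, 53, 53, 53, 71, 60, 53, 53, 53, 53, 53, 17, 57,
    9, 57, 53, 60, 53, 53, 70, 53, 53, 53, 60, 60, 53, 60, 70, 53, 70, 70, 70, 9, 17, 17, 57, 53, 53, 53, 60, 53, 53,
    53, 53, 53, 60, 60, 53, 53, 161, 18, 57, 53, 53, 53, 53, 71, 70, 76, 70, 86, 71, 70, 17, 17, 57, 18, 57, 70, 53,
    53, 53, 76, 60, 53, 161, 86, 70, 70, 53, 17, 147, 71, 102, 53, 60, 53, 53, 60, 53, 53, 53, 60, 161, 53, 17, 57,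
    121, 70, 70, 17, 57, 18, 53, 70, 53, 53, 76, 94, 86, 17, 53, 18], [(0, 5, [(1, 1)], [(0, 1)]), (1, 3, [], []), (2,
    3, [], []), (3, 3, [(1, 1)], [(3, 341)]), (4, 3, [], []), (5, 3, [], []), (10, 3, [], []), (11, 3, [], []), (33,
    3, [], []), (44, 3, [], []), (45, 3, [], []), (56, 3, [], []), (62, 3, [], []), (75, 3, [], []), (94, 3, [], []),
    (102, 3, [], []), (121, 3, [], []), (130, 3, [], []), (141, 3, [], []), (155, 3, [], [])], [(0, [])]⟩,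
    by decide +kernel⟩

theorem okM_13 : Ok M.dat M.tabM [] 13 3 [] :=
    ⟨⟨3, [3, 1, 1, 1, 1, 1, 0, 1, 0, 1, 0, 0, 1, 1, 0, 0, 0, 0, 0, 0, 0, 0, 1, 0, 0, 0, 0, 0, 0, 0, 0, 0, 0, 0, 0, 0,
    0, 0, 0, 0, 0, 0, 0, 0, 2, 3, 0, 0, 0, 0, 0, 0, 0, 0, 0, 0, 0, 0, 0, 0, 0, 0, 0, 0, 0, 0, 0, 0, 0, 0, 0, 0, 0, 0,
    0, 0, 0, 0, 0, 0, 0, 0, 0, 0, 0, 0, 0, 1, 2, 0, 0, 0, 0, 0, 0, 0, 0, 0, 0, 0, 0, 0, 0, 0, 0, 0, 0, 0, 0, 0, 0, 0,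
    0, 0, 0, 1, 1, 2, 0, 0, 0, 0, 0, 0, 0, 0, 0, 0, 0, 0, 0, 0, 0, 0, 1, 2, 0, 0, 0, 0, 0, 0, 0, 0, 0, 0, 0, 0, 0, 0,
    0, 0, 0, 0, 0, 0, 1, 2, 0, 0, 0, 0, 0, 0, 0, 0, 0, 1, 0, 0, 0], [0, 3, 16, 3, 16, 3, 16, 3, 16, 16, 16, 16, 3, 16,
    16, 21, 16, 16, 16, 16, 16, 16, 5, 16, 16, 21, 26, 16, 16, 16, 16, 16, 16, 16, 16, 16, 16, 16, 16, 16, 26, 16, 16,
    16, 3, 0, 16, 16, 16, 16, 16, 16, 16, 16, 21, 16, 26, 16, 16, 16, 16, 16, 16, 16, 21, 16, 16, 16, 21, 16, 16, 16,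
    16, 16, 16, 16, 16, 16, 16, 16, 16, 21, 21, 16, 16, 29, 16, 3, 96, 16, 16, 16, 16, 21, 26, 16, 16, 16, 16, 16, 16,
    16, 32, 29, 29, 16, 16, 26, 21, 16, 16, 21, 16, 29, 16, 3, 3, 96, 21, 21, 34, 104, 16, 16, 16, 16, 21, 16, 16, 16,
    32, 16, 37, 34, 3, 137, 26, 16, 16, 21, 29, 21, 21, 16, 21, 21, 16, 16, 32, 16, 16, 26, 21, 26, 16, 73, 3, 96, 16,
    16, 16, 26, 26, 16, 32, 32, 16, 5, 21, 16, 26], [(0, 3, [(1, 1)], [(0, 2195)]), (1, 3, [], []), (2, 3, [], []),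
    (3, 3, [], []), (4, 3, [], []), (5, 3, [], []), (10, 3, [], []), (11, 3, [], []), (18, 3, [], []), (19, 3, [],
    []), (33, 3, [], []), (56, 3, [], []), (62, 3, [], []), (75, 3, [], []), (94, 3, [], []), (102, 3, [], []), (121,
    3, [], []), (130, 3, [], []), (141, 3, [], []), (155, 3, [], [])], []⟩,
    by decide +kernel⟩

end Cfsg.Agent.KM.Sp
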