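import Cfsg.Agent.KM.Sp.RowA
import Cfsg.Agent.KM.Sp.CtB
import Cfsg.Agent.KM.Sp.CtC
import Cfsg.Agent.KM.Sp.CtD
import Cfsg.Agent.BHZ.Spor.RowFi223
import Cfsg.Agent.BHZ.Spor.RowB3
import Cfsg.Agent.BHZ.Spor.RowM3
import Cfsg.Agent.BHZ.Spor.RowM5

/-!
# KM, sporadic rows: the groups from `Fi₂₂` to the Monster; the rows (helper67)

`rowSpor : RowFor CSpor`, `rowTits : RowFor CTits`.
-/

set_option autoImplicit false
set_option maxRecDepth 100000
set_option linter.unusedSectionVars false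

namespace Cfsg.Agent.KM.Sp

open Cfsg Subgroup Cfsg.Agent.BHZ.Spor Cfsg.Agent.TAB Cfsg.Agent.TAB.Eng Cfsg.Agent.TAB.Use Cfsg.Agent.PQ.Spor
open Cfsg.Agent.NotCT

variable {S : Type} [Group S] [Finite S]

theorem ty_of_zpowers {D : Dat} (T : TD S D) {x y : S} (h : zpowers x = zpowers y) : T.ty x = T.ty y := by
  obtain ⟨k, rfl⟩ := mem_powers_iff_mem_zpowers.2 (h ▸ mem_zpowers x : x ∈ zpowers y)
  have h1 := ON.coprime_of_conj (g := y) (k := k) (by
    rw [← Nat.card_zpowers, ← Nat.card_zpowers, h]) (IsConj.refl _)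
  conv_rhs => rw [← pow_one y]
  rw [T.pow, T.pow, Dat.pwf, Dat.pwf, ← T.ord, h1, Nat.gcd_one_left]

theorem fi22_3 [Finite Spor.Fi22] : NoA 3 3 Spor.Fi22 := by
  have := Fact.mk Nat.prime_three
  obtain ⟨m⟩ := H834.Bridge.model_of_iso (MulEquiv.refl Spor.Fi22) (D := KFacts.FiTT.TK (MulEquiv.refl _)) rfl
  obtain ⟨T, hm, hT⟩ := tFi22
  have hS : ¬ LV.AbS 3 Spor.Fi22 := fun hA => H573.Spor.fi22_3 ⟨MulEquiv.refl _⟩ (LV.SpH.pcent hA)
  have key : ∀ i, F22.dat.ord i = 3 → T.ty (m.t 0 * m.t 2) ≠ i →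
      ∀ E : Subgroup Spor.Fi22, LocA 3 E → 3 ^ 3 ∣ Nat.card E → ∀ y ∈ E, T.ty y ∉ [i] := by
    intro i hi h0 E hE _ y hy h1
    rw [List.mem_singleton] at h1
    rcases BHZ.Spor.F22.cls _ m (x := y) (by rw [T.ord, h1, hi]) with h2 | ⟨g, hg⟩
    · exact hE.not_constr hS hy h2
    · rw [MonoidHom.map_zpowers] at hg
      exact h0 (((T.conj _ g).symm.trans (ty_of_zpowers T hg)).trans h1)
  by_cases h : T.ty (m.t 0 * m.t 2) = 4
  · exact okFi22_3b.noA (Hy.nil hm hT) (key 5 rfl (by omega))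
  · exact okFi22_3a.noA (Hy.nil hm hT) (key 4 rfl h)

theorem aFi22 (h : Spor.IsoFi22 S) : All S := h.elim fun e =>
  have := Finite.of_equiv S e.toEquiv
  all_noA (Orders.fi22 h) [3] (by decide +kernel) (okFi22_2.nt (tFi22.pull e) Nat.prime_two)
    fun hp => have := Fact.mk hp; fi22_3.congr e.symm

theorem aFi23 (h : Spor.IsoFi23 S) : All S := by
  obtain ⟨e⟩ := id h
  have := Finite.of_equiv S e.toEquiv
  have := Fact.mk Nat.prime_two
  have := Fact.mk Nat.prime_three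
  obtain ⟨T, h1⟩ := F23C.inF23
  exact all_noA (Orders.fi23 h) [3] (by decide +kernel)
    ((okFi23_2.noA0 (Hy.of_rat h1.1 h1.2.1 (F23.tab_of h1) _ (by decide +kernel))).congr e.symm)
    fun _ => (okFi23_3.noA0 (Hy.of_rat h1.1 h1.2.1 (F23.tab_of h1) _ (by decide +kernel))).congr e.symm

theorem aFi24 (h : Spor.IsoFi24' S) : All S := by
  obtain ⟨e⟩ := id h
  have := Finite.of_equiv S e.toEquiv
  have := Fact.mk Nat.prime_two
  have := Fact.mk Nat.prime_three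
  obtain ⟨X, _, _, ⟨C⟩⟩ := F24C.inF24
  have H : ∀ L : List (ℕ × ℕ), (∀ e ∈ L, e.1 < 94 ∧ F24.kind.getD e.1 0 = 0 ∧ F24.DT.cnt e.1 * e.2 = F24.DT.N) →
      Hy C.T' F24.tabT L := fun L hL =>
    Hy.of_one C.mass' C.mn.tab L (fun e he => C.one _ (hL e he).1 (hL e he).2.1) fun e he => (hL e he).2.2
  exact all_noA (Orders.fi24 h) [3, 7] (by decide +kernel) ((okFi24_2.noA0 (H _ (by decide +kernel))).congr e.symm)
    ⟨fun _ => (okFi24_3.noA0 (H _ (by decide +kernel))).congr e.symm, okFi24_7.nt (tFi24.pull e)⟩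

theorem aHN (h : Spor.IsoHN S) : All S := h.elim fun e =>
  all_noA (Orders.hn h) [3, 5] (by decide +kernel) (okHN_2.nt (tHN.pull e) Nat.prime_two)
    ⟨okHN_3.nt (tHN.pull e), okHN_5.nt (tHN.pull e)⟩

theorem th_3 [Finite Spor.Th] : NoA 3 2 Spor.Th := by
  have := Fact.mk Nat.prime_three
  obtain ⟨T, h1, h2, -, -, h3⟩ := Th.tab
  exact okTh_3.noA0 (Hy.of_rat h1 h2 h3 _ (by decide +kernel))

theorem aTh (h : Spor.IsoTh S) : All S := h.elim fun e =>
  have := Finite.of_equiv S e.toEquiv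
  all_noA (Orders.th h) [3, 5] (by decide +kernel) (okTh_2.nt (tTh.pull e) Nat.prime_two)
    ⟨fun hp => have := Fact.mk hp; (th_3.mono (by norm_num)).congr e.symm,
      syl_noA (Orders.th h) (by norm_num) (LV.SpH.th_5 h)⟩

theorem b_3 (h : Spor.IsoB S) : NoA 3 3 S := by
  have := Fact.mk Nat.prime_three
  obtain ⟨e⟩ := id h
  obtain ⟨T, hm, hT⟩ := tB.pull e
  refine okB_3.noA (Hy.nil hm hT) fun E hE _ y hy h1 => ?_
  rw [List.mem_singleton] at h1
  have h2 : orderOf y = 3 := by rw [T.ord, h1]; decide +kernel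
  exact hE.not_constr (fun hA => H573.Spor.b_3 h (LV.SpH.pcent hA)) hy (constr_of_qframe h2
    (H604.RB.ThreeB.qframe_three h h2 (not_dvd_cent (Hy.nil hm hT) h1 18 (by decide +kernel))))

theorem aB (h : Spor.IsoB S) : All S := h.elim fun e =>
  all_noA (Orders.b h) [3, 5] (by decide +kernel) (okB_2.nt (tB.pull e) Nat.prime_two)
    ⟨fun _ => b_3 h, okB_5.nt (tB.pull e)⟩

theorem dvd_of_XX {G : Type} [Group G] {y : G} {T : Type} [Group T] (e : LThreeMB.XX y ≃* T) :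
    Nat.card T ∣ Nat.card (centralizer ({y} : Set G)) :=
  (exists_hom_of_XX e).elim fun φ h => card_dvd_of_surjective φ h.1

section monster

open Cfsg.Agent.MonsterX Cfsg.Agent.BHZ.Spor.Mon

theorem m_3 [Finite InstData.M.G] (e : Spor.Monster ≃* InstData.M.G) : NoA 3 3 InstData.M.G := by
  have := Fact.mk Nat.prime_two
  have := Fact.mk Nat.prime_three
  obtain ⟨T, hm, hT⟩ := tM.pull e.symm
  have H := Hy.nil hm hT
  refine okM_3.noA H fun E hE hd y hy h1 => ?_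
  have h2 : orderOf y = 3 ∧ 2 ∣ Nat.card (centralizer ({y} : Set InstData.M.G)) ∧
      ¬ 29 ∣ Nat.card (centralizer ({y} : Set InstData.M.G)) := by
    rw [T.ord]
    rcases List.mem_pair.1 h1 with h2 | h2
    · exact ⟨by rw [h2]; decide +kernel, prime_dvd_cent H h2 46 [32, 53] (by decide +kernel),
        not_dvd_cent H h2 3 (by decide +kernel)⟩
    · exact ⟨by rw [h2]; decide +kernel, prime_dvd_cent H h2 46 [98, 58] (by decide +kernel),
        not_dvd_cent H h2 3 (by decide +kernel)⟩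
  rcases cases_three h2.1 h2.2.1 with h3 | ⟨x, hyx, hx, ⟨⟨f⟩⟩ | ⟨⟨f⟩⟩⟩
  · exact hE.not_constr (fun hA => H573.Spor.m_3 ⟨e.symm⟩ (LV.SpH.pcent hA)) hy h3
  · obtain ⟨c, rfl⟩ := isConj_iff.1 hyx
    obtain ⟨φ, hφ, hk⟩ := exists_hom_of_XX f
    have := Finite.of_surjective φ hφ
    refine (hE.congr (MulAut.conj c⁻¹)).descend (y := c * y * c⁻¹) (by
      show c⁻¹ * (c * y * c⁻¹) * c⁻¹⁻¹ ∈ E
      rwa [show c⁻¹ * (c * y * c⁻¹) * c⁻¹⁻¹ = y by group]) hx φ hφ
      (fun n hn => (hk n).1 hn) th_3 ?_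
    rwa [← card_map_of_injective (f := (MulAut.conj c⁻¹).toMonoidHom) (MulAut.conj c⁻¹).injective,
      map_comap_eq_self_of_surjective (MulAut.conj c⁻¹).surjective]
  · refine h2.2.2 (Dvd.dvd.trans ?_ (card_cent_of_conj hyx ▸ dvd_of_XX f))
    rw [Orders.fi24 ⟨MulEquiv.refl _⟩]
    norm_num

theorem m_5 [Finite InstData.M.G] (e : Spor.Monster ≃* InstData.M.G) : NoA 5 3 InstData.M.G := by
  have := Fact.mk Nat.prime_two
  have := Fact.mk Nat.prime_five
  obtain ⟨T, hm, hT⟩ := tM.pull e.symm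
  have H := Hy.nil hm hT
  refine okM_5.noA H fun E hE hd y hy h1 => ?_
  rw [List.mem_singleton] at h1
  have h2 : orderOf y = 5 := by rw [T.ord, h1]; decide +kernel
  obtain ⟨t, ht⟩ := exists_prime_orderOf_dvd_card' 2 (prime_dvd_cent H h1 46 [98, 53] (by decide +kernel))
  rcases MFive.Row.cases_model (CpAutBFive.Closed.coFive H546.MFiveFull.hJ) CpAutBFive.Closed.hnEight h2
    (H58.MonThirteen.ev_five h2 (t := t) (by rw [orderOf_coe, ht]) (mem_centralizer_singleton_iff.1 t.2).symm) with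
    ⟨⟨f⟩⟩ | ⟨x, k, i, hx, hfr, hk⟩
  · refine not_dvd_cent H h1 6 (m := 19) (by decide +kernel) (Dvd.dvd.trans ?_ (dvd_of_XX f))
    rw [Orders.hn ⟨MulEquiv.refl _⟩]
    norm_num
  · exact hE.not_constr (fun hA => H573.Spor.m_5 ⟨e.symm⟩ (LV.SpH.pcent hA)) hy
      ((constr_five hx hfr).of_conj_pow (by rw [orderOf_coe, hx]) h2 hk)

theorem aM (h : Spor.IsoM S) : All S := by
  obtain ⟨e⟩ := id h
  obtain ⟨f⟩ := MonsterP.Equiv.equiv
  have := Finite.of_equiv S (e.trans f).toEquiv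
  have := Fact.mk Nat.prime_three
  have := Fact.mk Nat.prime_five
  exact all_noA (Orders.m h) [3, 5, 7, 13] (by decide +kernel) (okM_2.nt (tM.pull e) Nat.prime_two)
    ⟨fun _ => (m_3 f).congr (e.trans f).symm, fun _ => (m_5 f).congr (e.trans f).symm, okM_7.nt (tM.pull e),
      okM_13.nt (tM.pull e)⟩

end monster

theorem all_spor (h : IsSporadicGroup S) : All S := by
  rcases h with h | h | h | h | h | h | h | h | h | h | h | h | h | h | h | h | h | h | h | h | h | h | h | h | h | h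
  exacts [aM11 h, aM12 h, aM22 h, aM23 h, aM24 h, aJ1 h, aJ2 h, aJ3 h, aJ4 h, aCo1 h, aCo2 h, aCo3 h, aMcL h, aHS h,
    aSuz h, aHe h, aRu h, aON h, aLy h, aFi22 h, aFi23 h, aFi24 h, aHN h, aTh h, aB h, aM h]

/-- **the sporadic row** -/
theorem rowSpor : RowFor CSpor := fun p hp _ _ _ _ _ h => all_spor h p hp.out

/-- **the row of the Tits group** -/
theorem rowTits : RowFor CTits := fun p hp _ _ _ _ _ h => aTits h p hp.out

end Cfsg.Agent.KM.Sp
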