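import Cfsg.Agent.KM.Sp.Eng
import Cfsg.Agent.PQ.Spor.Tabs
import Cfsg.Agent.TH.Spor.J3Tab

/-!
# KM, sporadic rows: certificates (helper67)
-/

set_option autoImplicit false
set_option maxRecDepth 100000

namespace Cfsg.Agent.KM.Sp

open Cfsg Cfsg.Agent.TAB Cfsg.Agent.TAB.Eng Cfsg.Agent.TAB.Use
open Cfsg.Agent.TAB.Sm2 (mkRows)

theorem okM12_2 : Ok Sm2.M12.dat (mkRows Sm2.M12.rA Sm2.M12.rB) [] 2 5 [] :=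
    ⟨⟨6, [6, 4, 6, 2, 3, 6, 6, 2, 2, 3, 6, 6, 2, 2], [0, 11, 0, 11, 10, 0, 0, 11, 11, 10, 0, 0, 11, 11], [(0, 5, [(1,
    3)], [(0, 29), (2, 1), (5, 31), (6, 31)]), (3, 5, [], []), (4, 5, [], []), (7, 5, [], []), (13, 5, [], [])], []⟩,
    by decide +kernel⟩

theorem okM12_3 : Ok Sm2.M12.dat (mkRows Sm2.M12.rA Sm2.M12.rB) [] 3 3 [] :=
    ⟨⟨3, [3, 1, 1, 2, 3, 0, 0, 0, 1, 2, 1, 1, 0, 0], [0, 3, 4, 3, 0, 4, 4, 4, 3, 8, 3, 3, 4, 4], [(0, 3, [(1, 1)],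
    [(0, 2)]), (1, 3, [], []), (2, 3, [], []), (7, 3, [], []), (13, 3, [], [])], []⟩,
    by decide +kernel⟩

theorem okM22_2 : Ok Sm2.M22.dat (mkRows Sm2.M22.rA Sm2.M22.rB) [] 2 5 [] :=
    ⟨⟨7, [7, 7, 6, 7, 7, 6, 6, 7, 7, 6], [0, 0, 4, 0, 0, 4, 4, 0, 0, 5], [(0, 5, [(1, 1)], [(0, 5), (1, 1), (4, 31)]),
    (2, 5, [(1, 1)], [(2, 31)]), (5, 5, [], [(5, 1)]), (7, 5, [], [(7, 1)]), (9, 5, [], [(9, 1)])], []⟩,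
    by decide +kernel⟩

theorem okM23_2 : Ok Sm2.M23.dat (mkRows Sm2.M23.rA Sm2.M23.rB) [] 2 5 [] :=
    ⟨⟨7, [7, 7, 4, 7, 4, 4, 4, 7, 6, 4, 4, 6], [0, 0, 6, 0, 6, 6, 6, 0, 2, 6, 6, 1], [(0, 5, [(1, 1)], [(0, 6), (1,
    2)]), (2, 5, [], []), (4, 5, [], []), (6, 5, [], []), (8, 5, [], [(8, 1)]), (11, 5, [], [(11, 1)])], []⟩,
    by decide +kernel⟩

theorem okM24_2 : Ok Sm2.M24.dat (mkRows Sm2.M24.rA Sm2.M24.rB) [] 2 5 [] :=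
    ⟨⟨10, [10, 10, 10, 5, 7, 10, 10, 10, 6, 5, 7, 4, 10, 6, 6, 7, 10, 4, 7, 4, 4], [0, 0, 0, 11, 10, 0, 0, 0, 10, 11,
    10, 11, 0, 10, 10, 8, 0, 11, 8, 11, 11], [(0, 9, [(-34, 2), (1, 10)], [(0, 120), (1, 376)]), (3, 5, [(1, 1)], [(3,
    1), (9, 31)]), (4, 5, [(1, 5)], [(4, 2)]), (8, 5, [(1, 1)], [(8, 31)]), (11, 5, [], []), (14, 5, [], [(14, 1)]),
    (20, 5, [], [])], [(0, [])]⟩,
    by decide +kernel⟩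

theorem okM24_3 : Ok Sm2.M24.dat (mkRows Sm2.M24.rA Sm2.M24.rB) [] 3 3 [] :=
    ⟨⟨3, [3, 1, 1, 3, 2, 1, 0, 1, 1, 1, 1, 1, 0, 1, 1, 1, 3, 1, 1, 1, 0], [0, 2, 5, 0, 5, 2, 15, 15, 2, 2, 5, 5, 15,
    2, 2, 2, 0, 5, 2, 5, 15], [(0, 3, [(1, 1)], [(0, 5)]), (1, 3, [], []), (2, 3, [], []), (8, 3, [], []), (11, 3, [],
    []), (14, 3, [], []), (20, 3, [], [])], []⟩,
    by decide +kernel⟩

theorem okTits_2 : Ok Sm2.Tits.dat (mkRows Sm2.Tits.rA Sm2.Tits.rB) [] 2 5 [] :=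
    ⟨⟨11, [11, 11, 11, 9, 11, 11, 11, 5, 9, 11, 11, 5, 9, 5, 11], [0, 0, 0, 2, 0, 0, 0, 7, 2, 0, 0, 7, 2, 7, 0], [(0,
    9, [(-1, 1), (1, 3)], [(0, 503), (2, 511), (1, 7), (6, 511), (5, 511), (9, 511)]), (3, 5, [(1, 1)], [(3, 1), (8,
    31)]), (7, 5, [(1, 1)], [(7, 31)]), (13, 5, [], [(13, 1)])], [(0, [])]⟩,
    by decide +kernel⟩

theorem okJ2_2 : Ok J2.D (mkRows J2.A J2.B) [] 2 5 [] :=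
    ⟨⟨7, [7, 7, 4, 4, 2, 7, 2, 3, 4, 2, 2, 7, 2, 3, 5, 2], [0, 0, 5, 10, 5, 0, 5, 8, 10, 5, 5, 0, 5, 10, 1, 5], [(0,
    5, [(1, 2)], [(0, 15), (1, 3), (5, 1)]), (3, 5, [], []), (4, 5, [], []), (6, 5, [], []), (7, 5, [], []), (10, 5,
    [], [])], []⟩,
    by decide +kernel⟩

theorem okJ2_3 : Ok J2.D (mkRows J2.A J2.B) [] 3 3 [] :=
    ⟨⟨3, [3, 1, 1, 3, 2, 1, 1, 1, 1, 1, 1, 1, 1, 1, 1, 1], [0, 1, 2, 0, 2, 1, 1, 1, 1, 2, 1, 2, 2, 1, 1, 1], [(0, 3,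
    [(1, 2)], []), (1, 3, [], []), (2, 3, [], []), (6, 3, [], []), (7, 3, [], []), (10, 3, [], [])], []⟩,
    by decide +kernel⟩

theorem okJ3_2 : Ok TH.Spor.J3.dat TH.Spor.J3.tab [] 2 5 [] :=
    ⟨⟨7, [7, 7, 4, 1, 7, 1, 4, 7, 0, 3, 5, 0, 0, 3], [0, 0, 5, 11, 0, 11, 5, 0, 11, 5, 3, 11, 11, 5], [(0, 5, [(1,
    12)], [(0, 18), (1, 30)]), (2, 5, [], []), (3, 5, [], []), (5, 5, [], []), (12, 5, [], []), (13, 5, [], [])], []⟩,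
    by decide +kernel⟩

theorem okJ3_3 : Ok TH.Spor.J3.dat TH.Spor.J3.tab [] 3 3 [] :=
    ⟨⟨5, [5, 1, 3, 5, 1, 1, 1, 5, 5, 1, 1, 1, 1, 1], [0, 3, 3, 0, 3, 3, 3, 0, 0, 3, 3, 3, 3, 3], [(0, 5, [(1, 1)],
    [(0, 8), (3, 2)]), (1, 3, [], []), (5, 3, [], []), (12, 3, [], []), (13, 3, [], [])], [(0, [])]⟩,
    by decide +kernel⟩

theorem okJ4_2 : Ok J4.D J4.RR [] 2 5 [] :=
    ⟨⟨21, [21, 21, 21, 14, 21, 21, 21, 10, 14, 16, 16, 9, 21, 21, 21, 10, 14, 9, 8, 16, 16, 16, 8, 15, 7, 21, 14, 7,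
    9, 13, 7, 18, 15, 15, 7, 7, 7, 7, 21, 19, 7, 15, 14, 7], [0, 0, 0, 40, 0, 0, 0, 40, 40, 16, 16, 40, 0, 0, 0, 40,
    16, 40, 40, 28, 28, 28, 40, 28, 40, 0, 16, 40, 40, 16, 40, 6, 28, 28, 40, 40, 40, 40, 0, 12, 40, 41, 16, 40], [(0,
    18, [(65534, 4), (41595, 12), (108384, 13), (1, 18)], [(0, 230266), (1, 48250), (2, 229434), (4, 118490), (5,
    229354), (14, 173918)]), (3, 8, [(75, 4), (-99, 8), (-66, 12), (1, 13)], [(3, 84), (9, 188), (10, 16), (20,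
    240)]), (7, 5, [(1, 13)], [(7, 30), (15, 2)]), (11, 5, [(1, 7)], [(11, 31), (23, 1)]), (17, 5, [(1, 1)], [(17,
    28)]), (18, 5, [(1, 1)], []), (30, 5, [], [(30, 1)]), (33, 5, [], [(33, 1)]), (35, 5, [], [(35, 1)]), (38, 5, [],
    [(38, 1)]), (41, 5, [], [(41, 1)])], [(0, []), (3, [17, 4])]⟩,
    by decide +kernel⟩

theorem okCo1_2 : Ok Co1.D Co1.RR [(53, 1152)] 2 5 [] :=
    ⟨⟨21, [21, 21, 15, 21, 13, 10, 9, 6, 21, 21, 21, 21, 9, 21, 8, 6, 5, 14, 9, 11, 11, 10, 9, 16, 5, 16, 3, 6, 21,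
    21, 21, 21, 18, 21, 5, 4, 3, 9, 5, 5, 7, 7, 15, 4, 15, 17, 17, 12, 12, 6, 16, 16, 17, 7, 15, 4, 18, 3, 3, 6, 5, 3,
    3, 3, 5, 20, 20, 6, 5, 5, 11, 17, 15, 3, 2, 3, 15, 2, 17, 19, 16, 16, 18, 19, 3, 3, 9, 6, 3, 3, 5, 5, 3, 2, 9, 2,
    15, 3, 9], [0, 0, 45, 0, 45, 71, 45, 45, 0, 0, 0, 0, 61, 0, 45, 45, 45, 71, 45, 71, 71, 71, 71, 43, 45, 43, 45,
    61, 0, 0, 0, 0, 55, 0, 45, 45, 45, 71, 45, 45, 71, 71, 43, 61, 26, 36, 36, 26, 26, 61, 43, 36, 21, 7, 43, 61, 41,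
    45, 45, 71, 45, 45, 45, 45, 71, 1, 1, 71, 71, 71, 26, 41, 48, 45, 45, 61, 36, 45, 36, 14, 36, 55, 14, 13, 45, 61,
    26, 71, 45, 45, 71, 71, 61, 45, 26, 45, 36, 45, 26], [(0, 17, [(-37878, 1), (-51196, 2), (24826, 3), (-14338, 4),
    (39419, 5), (-39167, 9), (1, 10)], [(0, 66255), (1, 66767), (3, 99567), (8, 103599), (9, 62735), (11, 66807), (10,
    99583), (31, 14607), (30, 35047)]), (4, 9, [(129, 1), (1, 11)], [(4, 305), (17, 257), (44, 253), (45, 261), (46,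
    1)]), (5, 8, [(-1, 2), (1, 15)], [(5, 5), (21, 5), (48, 1)]), (6, 6, [(-1, 1), (1, 5)], [(6, 60), (22, 60), (20,
    4)]), (7, 5, [(1, 22)], [(7, 5), (25, 1)]), (14, 5, [(1, 4)], [(14, 5), (37, 1), (70, 31)]), (15, 5, [(14, 1), (1,
    15)], [(15, 3), (42, 31)]), (16, 5, [(1, 1)], [(16, 5), (41, 31)]), (26, 5, [], []), (27, 5, [(1, 1)], [(27, 31),
    (59, 1)]), (34, 5, [(1, 1)], [(34, 2)]), (35, 5, [], []), (36, 5, [], []), (43, 5, [], []), (57, 5, [], []), (77,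
    5, [], [])], [(0, []), (4, [5]), (5, [24, 5, 3, 2]), (6, [22, 15])]⟩,
    by decide +kernel⟩

theorem okCo1_3 : Ok Co1.D Co1.RR [(8, 743178240)] 3 3 [] :=
    ⟨⟨9, [9, 5, 3, 3, 8, 8, 9, 5, 4, 3, 2, 2, 3, 1, 3, 2, 1, 5, 3, 6, 7, 4, 6, 4, 2, 2, 2, 1, 2, 1, 2, 0, 2, 2, 9, 9,
    9, 1, 1, 1, 1, 1, 0, 2, 3, 3, 2, 5, 3, 3, 3, 2, 4, 3, 4, 3, 1, 2, 2, 1, 3, 2, 2, 2, 3, 0, 0, 8, 8, 8, 1, 0, 0, 2,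
    2, 1, 2, 0, 2, 2, 2, 2, 2, 3, 1, 1, 1, 2, 1, 2, 3, 2, 2, 1, 7, 2, 0, 2, 2], [0, 24, 17, 37, 17, 24, 0, 37, 24, 33,
    96, 24, 17, 37, 17, 24, 96, 24, 17, 24, 9, 24, 90, 24, 37, 37, 24, 37, 24, 96, 24, 96, 35, 37, 0, 0, 0, 96, 96,
    37, 96, 96, 96, 24, 24, 24, 24, 90, 24, 17, 24, 24, 90, 24, 90, 17, 37, 35, 24, 37, 17, 24, 37, 24, 90, 96, 96, 1,
    1, 1, 96, 96, 96, 24, 24, 37, 33, 96, 24, 24, 24, 35, 24, 90, 64, 37, 64, 24, 37, 24, 90, 24, 24, 37, 7, 35, 96,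
    24, 24], [(0, 9, [(1, 9)], [(0, 54)]), (1, 5, [(1, 97)], [(1, 233), (22, 2)]), (2, 3, [(1, 1)], [(2, 21)]), (3, 3,
    [(1, 1)], [(3, 24)]), (8, 4, [(1, 1)], []), (9, 3, [(1, 6)], [(9, 2)]), (10, 3, [], []), (11, 3, [], []), (14, 3,
    [(1, 1)], [(14, 3)]), (15, 3, [], []), (16, 3, [], []), (26, 3, [], []), (27, 3, [], []), (28, 3, [], []), (29, 3,
    [], []), (43, 3, [], []), (57, 3, [], []), (77, 3, [], [])], [(0, []), (1, [5, 8, 2]), (8, [45])]⟩,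
    by decide +kernel⟩

theorem okCo1_5 : Ok Co1.D Co1.RR [] 5 3 [] :=
    ⟨⟨4, [4, 2, 2, 1, 2, 1, 1, 1, 1, 0, 1, 0, 0, 1, 3, 3, 4, 1, 1, 1, 1, 0, 0, 0, 1, 0, 1, 0, 1, 0, 0, 0, 0, 0, 0, 0,
    0, 2, 2, 2, 2, 3, 1, 0, 1, 0, 0, 0, 0, 0, 0, 0, 0, 0, 0, 0, 0, 0, 0, 0, 2, 2, 1, 1, 2, 0, 0, 0, 0, 0, 1, 1, 2, 0,
    0, 0, 0, 0, 0, 0, 0, 0, 0, 0, 0, 0, 0, 1, 1, 1, 2, 1, 0, 1, 0, 0, 1, 0, 1], [0, 5, 5, 5, 5, 5, 22, 10, 10, 38, 38,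
    22, 22, 5, 6, 5, 0, 10, 5, 5, 22, 22, 22, 38, 10, 38, 14, 22, 10, 22, 22, 22, 38, 22, 22, 38, 22, 10, 5, 6, 5, 9,
    5, 55, 10, 22, 22, 22, 38, 38, 22, 38, 22, 22, 38, 22, 22, 38, 22, 22, 6, 5, 10, 5, 70, 22, 22, 22, 22, 22, 10, 5,
    70, 22, 22, 22, 55, 79, 22, 22, 38, 22, 22, 38, 38, 22, 40, 10, 10, 5, 70, 5, 55, 14, 38, 38, 10, 22, 10], [(0, 4,
    [(1, 1)], [(0, 1)]), (1, 3, [], []), (2, 3, [], []), (3, 3, [], []), (4, 3, [], []), (5, 3, [], []), (6, 3, [],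
    []), (7, 3, [], []), (26, 3, [], []), (27, 3, [], []), (43, 3, [], []), (57, 3, [], []), (77, 3, [], [])], [(0,
    [])]⟩,
    by decide +kernel⟩

theorem okCo2_2 : Ok Co2.D (mkRows Co2.A Co2.B) [] 2 5 [] :=
    ⟨⟨18, [18, 18, 18, 18, 7, 7, 18, 17, 17, 18, 18, 18, 18, 3, 3, 13, 9, 9, 9, 11, 12, 6, 17, 18, 18, 18, 17, 18, 1,
    10, 6, 12, 0, 12, 12, 13, 11, 12, 13, 15, 15, 6, 9, 1, 1, 18, 18, 5, 16, 11, 0, 15, 15, 9, 5, 9], [0, 0, 0, 0, 45,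
    45, 0, 23, 23, 0, 0, 0, 0, 45, 45, 18, 50, 50, 50, 18, 23, 50, 5, 0, 0, 0, 5, 0, 45, 18, 50, 23, 45, 18, 23, 23,
    18, 23, 41, 10, 5, 50, 18, 45, 45, 0, 0, 50, 8, 23, 45, 10, 5, 18, 50, 18], [(0, 16, [(29188, 1), (-9723, 2),
    (13821, 4), (13054, 5), (-3330, 6), (-9983, 8), (-1282, 9), (-2047, 11), (1, 13)], [(0, 19161), (1, 2809), (2,
    10985), (3, 31473), (8, 4861), (6, 6889), (9, 27409), (11, 21245), (25, 65269), (24, 34569)]), (4, 6, [(1, 22)],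
    [(16, 60)]), (5, 6, [(-1, 1), (1, 38)], [(5, 61), (19, 1), (18, 61), (36, 1)]), (13, 5, [], []), (14, 5, [], []),
    (21, 5, [(-15, 1), (1, 2)], [(21, 31), (41, 1)]), (28, 5, [], []), (32, 5, [], []), (50, 5, [], [])], [(0, []),
    (4, [11, 4]), (5, [14, 3, 1])]⟩,
    by decide +kernel⟩

theorem okCo2_3 : Ok Co2.D (mkRows Co2.A Co2.B) [] 3 3 [] :=
    ⟨⟨6, [6, 4, 2, 2, 6, 5, 3, 1, 2, 1, 1, 1, 0, 1, 1, 4, 5, 3, 3, 2, 2, 0, 1, 1, 0, 0, 0, 0, 6, 1, 1, 0, 0, 4, 2, 4,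
    2, 1, 3, 1, 3, 0, 0, 1, 4, 0, 0, 6, 0, 0, 0, 1, 3, 0, 1, 4], [0, 20, 14, 14, 0, 14, 14, 14, 14, 20, 14, 20, 28,
    20, 14, 6, 6, 14, 14, 14, 14, 20, 20, 14, 20, 20, 20, 20, 0, 42, 14, 20, 51, 40, 14, 6, 14, 14, 40, 14, 40, 20,
    20, 14, 6, 20, 20, 0, 20, 20, 48, 14, 40, 20, 14, 6], [(0, 6, [(1, 1)], [(0, 725), (4, 2)]), (1, 4, [(1, 1)], []),
    (2, 3, [], []), (3, 3, [], []), (6, 3, [(1, 1)], [(6, 25)]), (9, 3, [], []), (13, 3, [], []), (14, 3, [], []),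
    (21, 3, [], []), (32, 3, [], []), (50, 3, [], [])], [(0, []), (1, [3, 1])]⟩,
    by decide +kernel⟩

theorem okCo2_5 : Ok Co2.D (mkRows Co2.A Co2.B) [] 5 3 [] :=
    ⟨⟨3, [3, 1, 1, 1, 1, 1, 0, 1, 0, 0, 0, 0, 1, 3, 2, 1, 0, 1, 0, 0, 0, 0, 0, 0, 0, 0, 0, 0, 0, 2, 1, 1, 0, 0, 0, 0,
    0, 0, 0, 0, 0, 0, 0, 1, 2, 0, 0, 0, 1, 2, 0, 0, 0, 0, 1, 2], [0, 3, 10, 3, 11, 3, 10, 10, 10, 10, 10, 10, 3, 0, 3,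
    10, 10, 3, 10, 10, 10, 10, 11, 10, 12, 11, 11, 11, 10, 21, 3, 3, 10, 10, 11, 10, 10, 10, 11, 10, 10, 10, 11, 3,
    21, 11, 11, 11, 3, 21, 33, 10, 11, 10, 3, 21], [(0, 3, [(1, 1)], [(0, 123)]), (1, 3, [], []), (2, 3, [], []), (3,
    3, [], []), (4, 3, [], []), (5, 3, [], []), (21, 3, [], []), (32, 3, [], []), (50, 3, [], [])], []⟩,
    by decide +kernel⟩

theorem okCo3_2 : Ok Co3.D (mkRows Co3.A Co3.B) [] 2 5 [] :=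
    ⟨⟨10, [10, 10, 7, 7, 3, 3, 10, 10, 2, 3, 5, 4, 3, 5, 3, 1, 9, 9, 10, 1, 1, 2, 3, 3, 7, 7, 7, 1, 1, 1, 1, 6, 1, 3,
    3, 7, 7, 1], [0, 0, 20, 6, 24, 20, 0, 0, 24, 20, 24, 24, 24, 29, 20, 24, 6, 6, 0, 24, 24, 24, 20, 20, 6, 6, 11,
    24, 24, 24, 24, 33, 24, 20, 23, 6, 6, 24], [(0, 8, [(1, 17)], [(0, 186), (1, 10), (7, 254)]), (3, 5, [(1, 9)],
    [(3, 18), (10, 2)]), (4, 5, [], []), (5, 5, [], []), (8, 5, [], []), (9, 5, [], []), (15, 5, [], []), (23, 5, [],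
    []), (34, 5, [], [])], [(0, [])]⟩,
    by decide +kernel⟩

theorem okCo3_3 : Ok Co3.D (mkRows Co3.A Co3.B) [] 3 3 [] :=
    ⟨⟨7, [7, 5, 3, 7, 7, 4, 3, 2, 2, 2, 5, 5, 6, 6, 2, 1, 2, 2, 1, 7, 7, 3, 1, 1, 4, 3, 5, 1, 3, 5, 7, 3, 1, 1, 1, 3,
    3, 3], [0, 12, 22, 0, 0, 22, 22, 22, 23, 23, 12, 12, 16, 16, 22, 22, 22, 22, 22, 0, 0, 12, 23, 22, 12, 12, 8, 22,
    12, 8, 0, 12, 22, 22, 22, 12, 12, 12], [(0, 6, [(1, 2)], [(0, 10), (3, 1)]), (1, 4, [(1, 2)], [(1, 2), (11, 80)]),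
    (2, 3, [(1, 2)], [(2, 25)]), (6, 3, [(1, 2)], [(6, 25)]), (7, 3, [], []), (8, 3, [], []), (9, 3, [], []), (15, 3,
    [], []), (23, 3, [], []), (34, 3, [], [])], [(0, []), (1, [11, 2])]⟩,
    by decide +kernel⟩

theorem okCo3_5 : Ok Co3.D (mkRows Co3.A Co3.B) [] 5 3 [] :=
    ⟨⟨3, [3, 1, 1, 1, 1, 0, 1, 0, 3, 2, 1, 0, 0, 0, 0, 0, 0, 0, 0, 0, 0, 2, 1, 0, 0, 0, 0, 0, 2, 1, 0, 2, 0, 0, 0, 0,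
    0, 2], [0, 11, 4, 13, 4, 11, 11, 11, 0, 4, 11, 14, 11, 11, 13, 11, 13, 13, 13, 11, 11, 10, 4, 11, 11, 11, 11, 13,
    10, 4, 11, 10, 11, 11, 22, 13, 13, 10], [(0, 3, [(1, 1)], [(0, 123)]), (1, 3, [], []), (2, 3, [], []), (3, 3, [],
    []), (4, 3, [], []), (5, 3, [], []), (15, 3, [], []), (23, 3, [], []), (34, 3, [], [])], []⟩,
    by decide +kernel⟩

theorem okMcL_2 : Ok McL.D McL.RR [] 2 5 [] :=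
    ⟨⟨7, [7, 7, 3, 2, 7, 1, 4, 3, 2, 1, 7, 1, 1, 5, 5, 1, 1, 1], [0, 0, 5, 5, 0, 5, 8, 5, 5, 5, 0, 5, 5, 3, 3, 5, 5,
    5], [(0, 5, [(1, 1)], [(0, 6), (1, 2)]), (2, 5, [], []), (3, 5, [], []), (5, 5, [], []), (6, 5, [], []), (9, 5,
    [], []), (13, 5, [], [(13, 1)])], []⟩,
    by decide +kernel⟩

theorem okMcL_3 : Ok McL.D McL.RR [] 3 3 [] :=
    ⟨⟨6, [6, 2, 6, 6, 1, 1, 0, 4, 4, 3, 0, 6, 1, 0, 4, 3, 3, 3], [0, 9, 0, 0, 9, 9, 9, 3, 3, 8, 9, 0, 9, 9, 3, 8, 8,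
    8], [(0, 6, [(1, 3)], [(0, 9)]), (1, 3, [], []), (5, 3, [], []), (6, 3, [], []), (9, 3, [], [(9, 1)]), (13, 3, [],
    [])], [(0, [])]⟩,
    by decide +kernel⟩

theorem okHS_2 : Ok HS.D (mkRows HS.A HS.B) [] 2 5 [] :=
    ⟨⟨9, [9, 6, 9, 4, 9, 9, 9, 2, 5, 3, 3, 5, 2, 9, 9, 5, 2, 2, 8, 2, 6], [0, 11, 0, 11, 0, 0, 0, 11, 9, 11, 11, 9,
    11, 0, 0, 9, 11, 17, 3, 11, 15], [(0, 8, [(1, 11)], []), (3, 5, [], []), (7, 5, [], []), (8, 5, [(1, 1)], [(8, 1),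
    (15, 31)]), (9, 5, [], []), (12, 5, [], []), (17, 5, [], [])], [(0, [])]⟩,
    by decide +kernel⟩

theorem okHS_5 : Ok HS.D (mkRows HS.A HS.B) [] 5 3 [] :=
    ⟨⟨3, [3, 1, 1, 1, 1, 0, 0, 2, 3, 3, 0, 0, 0, 1, 0, 2, 1, 0, 0, 1, 2], [0, 4, 12, 4, 12, 12, 12, 4, 0, 0, 12, 12,
    16, 4, 12, 7, 4, 12, 12, 4, 7], [(0, 3, [(1, 2)], [(0, 2)]), (1, 3, [], []), (2, 3, [], []), (3, 3, [], []), (12,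
    3, [], []), (17, 3, [], [])], []⟩,
    by decide +kernel⟩

theorem okSuz_2 : Ok Sz.dat (mkRows Sz.rowA Sz.rowB) [] 2 5 [] :=
    ⟨⟨13, [13, 13, 13, 6, 6, 7, 3, 9, 10, 2, 3, 13, 3, 2, 3, 3, 3, 2, 2, 3, 4, 4, 6, 12, 11, 5, 8, 11, 8, 3, 13, 9, 7,
    13, 5, 13, 8], [0, 0, 0, 27, 18, 15, 16, 15, 5, 18, 16, 0, 16, 18, 16, 16, 24, 18, 18, 16, 16, 27, 16, 2, 3, 27,
    15, 3, 27, 16, 0, 16, 27, 0, 18, 0, 27], [(0, 9, [(161, 1), (91, 2), (-7, 3), (1, 4)], [(0, 232), (1, 24), (2,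
    484), (33, 20), (35, 324)]), (4, 5, [(1, 8)], [(4, 3), (3, 31)]), (6, 5, [], []), (36, 5, [(1, 9)], [(28, 1), (7,
    31), (36, 13)]), (14, 5, [], []), (34, 5, [(1, 1)], []), (29, 5, [], []), (9, 5, [], []), (16, 5, [], [])], [(0,
    [])]⟩,
    by decide +kernel⟩

theorem okSuz_3 : Ok Sz.dat (mkRows Sz.rowA Sz.rowB) [] 3 3 [] :=
    ⟨⟨7, [7, 4, 2, 5, 7, 1, 4, 2, 4, 1, 1, 1, 1, 1, 1, 2, 2, 1, 2, 2, 7, 7, 2, 2, 1, 1, 4, 1, 3, 1, 1, 2, 6, 1, 2, 2,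
    7], [0, 11, 11, 6, 0, 11, 10, 11, 6, 11, 11, 11, 11, 11, 11, 10, 30, 11, 10, 10, 0, 0, 10, 10, 11, 11, 6, 11, 11,
    11, 11, 10, 6, 11, 10, 11, 0], [(0, 6, [(1, 10)], []), (1, 4, [(1, 5)], [(1, 3)]), (31, 3, [], []), (2, 3, [],
    []), (33, 3, [], []), (35, 3, [], []), (14, 3, [], []), (34, 3, [], []), (29, 3, [], []), (9, 3, [], []), (16, 3,
    [], [])], [(0, []), (1, [3, 2, 1])]⟩,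
    by decide +kernel⟩

theorem okHe_2 : Ok He.D He.RR [] 2 5 [] :=
    ⟨⟨10, [10, 9, 10, 3, 5, 6, 10, 10, 3, 3, 3, 2, 3, 10, 3, 3, 3, 4, 2, 3, 3, 3, 5, 7, 2], [0, 3, 0, 3, 5, 3, 0, 0,
    3, 3, 3, 5, 5, 0, 3, 3, 3, 11, 5, 3, 7, 3, 11, 1, 5], [(0, 9, [(150, 2), (1, 4)], [(0, 2), (2, 450), (7, 362)]),
    (3, 5, [], []), (4, 5, [(1, 5)], []), (8, 5, [], []), (10, 5, [], []), (11, 5, [], []), (12, 5, [], []), (19, 5,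
    [], [])], [(0, [])]⟩,
    by decide +kernel⟩

theorem okHe_3 : Ok He.D He.RR [] 3 3 [] :=
    ⟨⟨3, [3, 2, 1, 3, 2, 2, 2, 1, 2, 2, 1, 2, 1, 2, 2, 2, 1, 1, 2, 1, 2, 1, 1, 3, 1], [0, 3, 11, 0, 11, 2, 23, 23, 3,
    3, 11, 2, 11, 2, 3, 2, 23, 11, 3, 11, 2, 23, 11, 0, 11], [(0, 3, [(1, 1)], [(0, 14)]), (1, 3, [], []), (2, 3, [],
    []), (8, 3, [], []), (10, 3, [], []), (11, 3, [], []), (12, 3, [], []), (19, 3, [], [])], []⟩,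
    by decide +kernel⟩

theorem okHe_7 : Ok He.D He.RR [] 7 3 [] :=
    ⟨⟨3, [3, 1, 1, 1, 1, 1, 0, 0, 0, 0, 2, 3, 3, 0, 0, 0, 1, 3, 0, 0, 2, 1, 0, 0, 1], [0, 6, 10, 10, 6, 6, 10, 12, 10,
    10, 6, 0, 0, 12, 10, 12, 6, 0, 10, 10, 9, 6, 10, 10, 6], [(0, 3, [(1, 2)], [(0, 1)]), (1, 3, [], []), (2, 3, [],
    []), (3, 3, [], []), (4, 3, [], []), (8, 3, [], []), (19, 3, [], [])], []⟩,
    by decide +kernel⟩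

theorem okRu_2 : Ok Ru.D Ru.RR [] 2 5 [] :=
    ⟨⟨14, [14, 8, 14, 6, 14, 14, 14, 14, 2, 6, 12, 2, 13, 14, 13, 2, 11, 12, 12, 2, 2, 2, 14, 11, 11, 12, 2, 2], [0,
    19, 0, 19, 0, 0, 0, 0, 19, 21, 3, 19, 3, 0, 3, 19, 11, 3, 3, 19, 19, 19, 0, 11, 11, 3, 19, 19], [(0, 11, [(-2, 1),
    (1, 11)], [(0, 60), (2, 2044), (4, 4), (7, 8)]), (3, 5, [(1, 3)], [(3, 1), (10, 1), (18, 31)]), (8, 5, [], []),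
    (9, 5, [(1, 1)], [(9, 2)]), (11, 5, [], []), (19, 5, [], []), (27, 5, [], [])], [(0, [])]⟩,
    by decide +kernel⟩

theorem okRu_5 : Ok Ru.D Ru.RR [] 5 3 [] :=
    ⟨⟨3, [3, 1, 1, 1, 0, 0, 1, 1, 2, 3, 0, 0, 0, 0, 0, 1, 2, 0, 0, 0, 0, 1, 0, 2, 2, 0, 0, 0], [0, 5, 6, 5, 6, 6, 6,
    6, 5, 0, 6, 6, 6, 6, 6, 5, 8, 6, 6, 6, 6, 5, 15, 8, 8, 6, 6, 9], [(0, 3, [(1, 1)], [(0, 6)]), (1, 3, [], []), (2,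
    3, [], []), (3, 3, [], []), (11, 3, [], []), (19, 3, [], []), (27, 3, [], [])], []⟩,
    by decide +kernel⟩

theorem okON_2 : Ok ON.dON ON.tabON [] 2 5 [] :=
    ⟨⟨9, [9, 9, 3, 9, 9, 3, 3, 3, 3, 9, 9, 3, 3, 3, 3, 3, 9, 9, 6, 3, 3, 2], [0, 0, 1, 0, 0, 1, 1, 1, 1, 0, 0, 1, 1,
    1, 1, 1, 0, 0, 14, 1, 1, 4], [(0, 9, [(1, 1), (-100, 8)], [(0, 80), (1, 112)]), (2, 5, [], []), (5, 5, [], []),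
    (7, 5, [], []), (8, 5, [], []), (12, 5, [], []), (18, 5, [], [(18, 1)]), (21, 5, [], [])], [(0, [])]⟩,
    by decide +kernel⟩

theorem okLy_2 : Ok Ly.dat Ly.tb [] 2 5 [] :=
    ⟨⟨8, [8, 8, 7, 5, 8, 5, 4, 7, 5, 4, 4, 7, 7, 5, 5, 4, 3, 7, 6, 4, 4, 3, 3, 5, 6, 3, 3, 7, 6, 3, 5, 4, 3, 3, 3, 6,
    6, 3, 6], [0, 0, 1, 8, 0, 8, 8, 1, 8, 8, 19, 4, 4, 6, 8, 8, 8, 1, 4, 19, 8, 8, 8, 6, 4, 19, 8, 1, 4, 8, 6, 19, 8,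
    8, 8, 4, 4, 19, 4], [(0, 7, [(1, 17)], [(0, 80)]), (2, 5, [(1, 2)], [(2, 14), (7, 2)]), (3, 5, [(1, 1)], [(3, 2),
    (8, 2)]), (5, 5, [(1, 2)], [(5, 11), (14, 31), (24, 31)]), (6, 5, [], []), (10, 5, [], []), (16, 5, [], []), (33,
    5, [], []), (35, 5, [], [(35, 1)]), (38, 5, [], [(38, 1)])], [(0, [])]⟩,
    by decide +kernel⟩

theorem okLy_3 : Ok Ly.dat Ly.tb [] 3 3 [] :=
    ⟨⟨7, [7, 4, 7, 7, 2, 2, 1, 3, 5, 6, 1, 1, 2, 7, 2, 1, 1, 2, 4, 1, 2, 4, 1, 7, 1, 1, 1, 1, 5, 1, 1, 2, 4, 5, 1, 1,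
    1, 1, 1], [0, 5, 0, 0, 5, 5, 5, 5, 22, 4, 13, 5, 24, 0, 5, 5, 5, 5, 22, 13, 5, 22, 5, 0, 5, 13, 5, 5, 4, 5, 5, 5,
    22, 8, 5, 5, 5, 13, 13], [(0, 7, [(1, 1), (-990, 2)], [(0, 1477), (3, 1198)]), (1, 4, [(1, 1)], [(1, 2), (9,
    80)]), (4, 3, [], []), (5, 3, [], []), (6, 3, [], []), (10, 3, [], []), (16, 3, [], []), (33, 3, [], [(33, 1)]),
    (35, 3, [], []), (38, 3, [], [])], [(0, []), (1, [20, 1])]⟩,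
    by decide +kernel⟩

theorem okLy_5 : Ok Ly.dat Ly.tb [(22, 600)] 5 3 [] :=
    ⟨⟨6, [6, 2, 3, 1, 1, 6, 6, 1, 1, 0, 0, 1, 0, 0, 4, 5, 0, 0, 0, 0, 4, 3, 2, 0, 3, 0, 0, 0, 0, 6, 0, 3, 3, 0, 0, 0,
    3, 0, 0], [0, 20, 25, 20, 20, 0, 0, 20, 25, 20, 20, 20, 20, 20, 4, 3, 20, 20, 25, 20, 4, 4, 2, 27, 4, 20, 25, 20,
    25, 0, 20, 4, 4, 20, 20, 27, 4, 20, 25], [(0, 6, [(1, 19)], [(0, 20)]), (1, 3, [], []), (2, 3, [(1, 2)], [(2,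
    5)]), (3, 3, [], []), (10, 3, [], []), (16, 3, [], []), (33, 3, [], []), (35, 3, [], []), (38, 3, [], [])], [(0,
    [])]⟩,
    by decide +kernel⟩

end Cfsg.Agent.KM.Sp
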